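import Cfsg.Agent.H439.Der.Three
import Cfsg.Agent.H439.Der.Tools

/-!
# Counting `Aut T`-classes in a cyclic subgroup (S3502, helper221)

* `card_le_of_fused` : a set of elements fused by `Aut T` with at most `n` elements in every `T`-class has at most
  `|Out T| * n` elements;
* `not_SC_of_card`, `not_SCC_of_card`, `exists_ne_of_card`;
* `conj_card_le` : the conjugates of `z` in a cyclic subgroup.
-/

set_option autoImplicit false

namespace Cfsg.Agent.H221.Der

open Subgroup Cfsg.Agent.H439.Der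

variable {T : Type*} [Group T]

theorem card_le_of_fused [Finite T] (P : Finset T) (c : T) (n : ℕ) (h : ∀ z ∈ P, ∃ φ : T ≃* T, φ c = z)
    (hn : ∀ z ∈ P, Nat.card {w : T // w ∈ P ∧ ∃ g : T, g * z * g⁻¹ = w} ≤ n) :
    P.card ≤ Nat.card (Cfsg.Out T) * n := by
  classical
  have : Finite (MulAut T) := Finite.of_injective (fun f : MulAut T => (f : T → T)) DFunLike.coe_injective
  have := Fintype.ofFinite T
  have := Fintype.ofFinite (Cfsg.Out T)
  have hφ : ∀ y : T, ∃ φ : MulAut T, y ∈ P → φ c = y := by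
    intro y
    by_cases hy : y ∈ P
    · obtain ⟨φ, hφ⟩ := h y hy
      exact ⟨φ, fun _ => hφ⟩
    · exact ⟨1, fun h => absurd h hy⟩
  choose φ hφ using hφ
  rw [mul_comm, Nat.card_eq_fintype_card (α := Cfsg.Out T)]
  refine Finset.card_le_mul_card_image_of_maps_to (f := fun y => (QuotientGroup.mk (φ y) : Cfsg.Out T))
    (t := Finset.univ) (fun _ _ => Finset.mem_univ _) _ ?_
  intro d _
  rcases Finset.eq_empty_or_nonempty (P.filter fun y => (QuotientGroup.mk (φ y) : Cfsg.Out T) = d) with h0 | ⟨y0, hy0⟩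
  · rw [h0]; exact Nat.zero_le _
  rw [Finset.mem_filter] at hy0
  refine le_trans ?_ (hn y0 hy0.1)
  rw [← Set.ncard_coe_finset, ← Nat.card_coe_set_eq]
  refine Nat.card_le_card_of_injective
    (fun y : ((P.filter fun y => (QuotientGroup.mk (φ y) : Cfsg.Out T) = d : Finset T) : Set T) =>
      (⟨(y : T), ?_, ?_⟩ : {w : T // w ∈ P ∧ ∃ g : T, g * y0 * g⁻¹ = w})) ?_
  · have hy := y.2
    rw [Finset.mem_coe, Finset.mem_filter] at hy
    exact hy.1
  · have hy := y.2
    rw [Finset.mem_coe, Finset.mem_filter] at hy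
    have h1 : (QuotientGroup.mk (φ y0) : Cfsg.Out T) = QuotientGroup.mk (φ y) := by rw [hy0.2, hy.2]
    rw [QuotientGroup.eq] at h1
    obtain ⟨g, hg⟩ := h1
    have h2 : φ y c = φ y0 (g * c * g⁻¹) := by
      have : φ y = φ y0 * MulAut.conj g := by
        have hg' : MulAut.conj g = (φ y0)⁻¹ * φ y := hg
        rw [hg', mul_inv_cancel_left]
      rw [this]; rfl
    refine ⟨φ y0 g, ?_⟩
    rw [← hφ y hy.1, h2, map_mul, map_mul, map_inv, hφ y0 hy0.1]
  · intro a b hab
    have h1 := congrArg Subtype.val hab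
    exact Subtype.ext h1

theorem sub_card_le [Finite T] {P Q : Finset T} {n : ℕ} (hQ : Q ⊆ P)
    (hn : ∀ z ∈ P, Nat.card {w : T // w ∈ P ∧ ∃ g : T, g * z * g⁻¹ = w} ≤ n) :
    ∀ z ∈ Q, Nat.card {w : T // w ∈ Q ∧ ∃ g : T, g * z * g⁻¹ = w} ≤ n := by
  intro z hz
  refine le_trans ?_ (hn z (hQ hz))
  exact Nat.card_le_card_of_injective
    (fun w : {w : T // w ∈ Q ∧ ∃ g : T, g * z * g⁻¹ = w} =>
      (⟨w.1, hQ w.2.1, w.2.2⟩ : {w : T // w ∈ P ∧ ∃ g : T, g * z * g⁻¹ = w}))
    fun a b hab => by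
      have h1 := congrArg Subtype.val hab
      exact Subtype.ext h1

theorem exists_ne_of_card [Finite T] {P : Finset T} {n o : ℕ}
    (hn : ∀ z ∈ P, Nat.card {w : T // w ∈ P ∧ ∃ g : T, g * z * g⁻¹ = w} ≤ n) (hO : Nat.card (Cfsg.Out T) ≤ o)
    (hlt : o * n < P.card) (x : T) : ∃ z ∈ P, ∀ φ : T ≃* T, φ x ≠ z := by
  by_contra hcon
  push Not at hcon
  have h1 := card_le_of_fused P x n hcon hn
  have h2 := Nat.mul_le_mul_right n hO
  omega

theorem not_SC_of_card [Finite T] {P : Finset T} {v n o : ℕ} (hv : ∀ z ∈ P, v ∣ orderOf z)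
    (hn : ∀ z ∈ P, Nat.card {w : T // w ∈ P ∧ ∃ g : T, g * z * g⁻¹ = w} ≤ n) (hO : Nat.card (Cfsg.Out T) ≤ o)
    (hlt : o * n < P.card) : ¬ SC T v := by
  intro h
  obtain ⟨x, hx⟩ : ∃ x, x ∈ P := Finset.card_pos.1 (by omega)
  obtain ⟨z, hz, hxz⟩ := exists_ne_of_card hn hO hlt x
  obtain ⟨φ, hφ⟩ := h x z (hv x hx) (hv z hz)
  exact hxz φ hφ

theorem not_SCC_of_card [Finite T] {P : Finset T} {v n o : ℕ} (hv : ∀ z ∈ P, v ∣ orderOf z)
    (hn : ∀ z ∈ P, Nat.card {w : T // w ∈ P ∧ ∃ g : T, g * z * g⁻¹ = w} ≤ n) (hO : Nat.card (Cfsg.Out T) ≤ o)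
    (hlt : 2 * (o * n) < P.card) : ¬ SCC T v := by
  classical
  rintro ⟨x, y, h⟩
  have h1 : P.card ≤ (P.filter fun z => ∃ φ : T ≃* T, φ x = z).card + (P.filter fun z => ∃ φ : T ≃* T, φ y = z).card := by
    refine (Finset.card_le_card ?_).trans (Finset.card_union_le _ _)
    intro z hz
    rw [Finset.mem_union, Finset.mem_filter, Finset.mem_filter]
    rcases h z (hv z hz) with h2 | h2
    · exact Or.inl ⟨hz, h2⟩
    · exact Or.inr ⟨hz, h2⟩
  have h2 := card_le_of_fused (P.filter fun z => ∃ φ : T ≃* T, φ x = z) x n (fun z hz => (Finset.mem_filter.1 hz).2)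
    (sub_card_le (Finset.filter_subset _ _) hn)
  have h3 := card_le_of_fused (P.filter fun z => ∃ φ : T ≃* T, φ y = z) y n (fun z hz => (Finset.mem_filter.1 hz).2)
    (sub_card_le (Finset.filter_subset _ _) hn)
  have h4 := Nat.mul_le_mul_right n hO
  omega

/-- in a cyclic group the elements of the order of `z` are powers of `z` -/
theorem mem_zpowers_of_orderOf [Finite T] {y z w : T} (hz : z ∈ zpowers y) (hw : w ∈ zpowers y)
    (h : orderOf z = orderOf w) : w ∈ zpowers z := by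
  classical
  have := Fintype.ofFinite T
  have hc : IsCyclic (zpowers y) := inferInstance
  set z' : zpowers y := ⟨z, hz⟩ with hz'
  set w' : zpowers y := ⟨w, hw⟩ with hw'
  have hoz : orderOf z' = orderOf z := by rw [← Subgroup.orderOf_coe]
  have how : orderOf w' = orderOf z := by rw [← Subgroup.orderOf_coe, h]
  let S : Finset (zpowers y) := Finset.univ.filter fun u => u ^ orderOf z = 1
  have hS : S.card ≤ orderOf z := IsCyclic.card_pow_eq_one_le (orderOf_pos z)
  let Z : Finset (zpowers y) := Finset.univ.filter fun u => u ∈ zpowers z'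
  have hZ : Z.card = orderOf z := by
    rw [← hoz, ← Nat.card_zpowers, Nat.card_eq_fintype_card, Fintype.card_subtype]
  have hZS : Z ⊆ S := by
    intro u hu
    rw [Finset.mem_filter] at hu ⊢
    refine ⟨Finset.mem_univ _, ?_⟩
    obtain ⟨j, rfl⟩ := hu.2
    show (z' ^ j) ^ orderOf z = 1
    rw [← zpow_natCast, ← zpow_mul, mul_comm, zpow_mul, zpow_natCast, ← hoz, pow_orderOf_eq_one, one_zpow]
  have hEq : Z = S := Finset.eq_of_subset_of_card_le hZS (by rw [hZ]; exact hS)
  have hwS : w' ∈ S := by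
    rw [Finset.mem_filter]
    exact ⟨Finset.mem_univ _, by rw [← how, pow_orderOf_eq_one]⟩
  rw [← hEq, Finset.mem_filter] at hwS
  obtain ⟨j, hj⟩ := hwS.2
  exact ⟨j, congrArg Subtype.val hj⟩

/-- conjugates in a cyclic subgroup -/
theorem conj_card_le [Finite T] {y : T} {P : Finset T} (hP : ∀ z ∈ P, z ∈ zpowers y) {n : ℕ}
    (hN : ∀ z ∈ P, Nat.card (normalizer (zpowers z : Set T)) ≤ n * Nat.card (centralizer ({z} : Set T))) :
    ∀ z ∈ P, Nat.card {w : T // w ∈ P ∧ ∃ g : T, g * z * g⁻¹ = w} ≤ n := by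
  intro z hz
  have h1 : Nat.card {w : T // w ∈ P ∧ ∃ g : T, g * z * g⁻¹ = w} ≤ Nat.card (conjPow z) := by
    refine Nat.card_le_card_of_injective
      (fun w : {w : T // w ∈ P ∧ ∃ g : T, g * z * g⁻¹ = w} => (⟨w.1, ?_, w.2.2⟩ : conjPow z)) ?_
    · obtain ⟨g, hg⟩ := w.2.2
      exact mem_zpowers_of_orderOf (hP z hz) (hP _ w.2.1) (by rw [← hg, orderOf_conj])
    · intro a b hab
      have h1 := congrArg Subtype.val hab
      exact Subtype.ext h1
  refine h1.trans ?_
  have h2 := card_conjPow_mul z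
  have h3 := hN z hz
  rw [← h2] at h3
  exact Nat.le_of_mul_le_mul_right h3 Nat.card_pos

/-- the elements of `⟨y⟩` of order divisible by the prime `v` -/
theorem card_filter_ge [Finite T] {y : T} {v : ℕ} (hv : v.Prime) (hd : v ∣ orderOf y) [Fintype T]
    [DecidablePred fun z : T => z ∈ zpowers y ∧ v ∣ orderOf z] :
    orderOf y - orderOf y / v ≤ (Finset.univ.filter fun z : T => z ∈ zpowers y ∧ v ∣ orderOf z).card := by
  classical
  obtain ⟨b, hb⟩ := hd
  have hb' : orderOf y / v = b := by rw [hb, Nat.mul_div_cancel_left _ hv.pos]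
  have hb0 : 0 < b := by
    rcases Nat.eq_zero_or_pos b with h0 | h0
    · have := orderOf_pos y
      rw [hb, h0, mul_zero] at this
      omega
    · exact h0
  rw [hb']
  let A : Finset T := Finset.univ.filter fun z => z ∈ zpowers y
  have hA : A.card = orderOf y := by
    rw [← Nat.card_zpowers, Nat.card_eq_fintype_card, Fintype.card_subtype]
  let B : Finset T := Finset.univ.filter fun z => z ∈ zpowers y ∧ ¬ v ∣ orderOf z
  have hB : B.card ≤ b := by
    have h1 : B.card ≤ (Finset.univ.filter fun u : zpowers y => u ^ b = 1).card := by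
      refine Finset.card_le_card_of_surjOn (fun u => (u : T)) ?_
      intro z hz
      rw [Finset.mem_coe, Finset.mem_filter] at hz
      obtain ⟨-, hz1, hz2⟩ := hz
      refine ⟨⟨z, hz1⟩, ?_, rfl⟩
      rw [Finset.mem_coe, Finset.mem_filter]
      refine ⟨Finset.mem_univ _, Subtype.ext ?_⟩
      show z ^ b = 1
      have h2 : orderOf z ∣ orderOf y := orderOf_dvd_of_mem_zpowers hz1
      rw [hb] at h2
      have h3 : Nat.Coprime (orderOf z) v := ((Nat.Prime.coprime_iff_not_dvd hv).2 hz2).symm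
      exact orderOf_dvd_iff_pow_eq_one.1 (h3.dvd_of_dvd_mul_left h2)
    exact h1.trans (IsCyclic.card_pow_eq_one_le hb0)
  have hAB : A = (Finset.univ.filter fun z : T => z ∈ zpowers y ∧ v ∣ orderOf z) ∪ B := by
    ext z
    simp only [A, B, Finset.mem_filter, Finset.mem_univ, true_and, Finset.mem_union]
    tauto
  have h4 : A.card ≤ (Finset.univ.filter fun z : T => z ∈ zpowers y ∧ v ∣ orderOf z).card + B.card := by
    rw [hAB]
    exact Finset.card_union_le _ _
  omega

end Cfsg.Agent.H221.Der
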