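import Mathlib
import Cfsg.Agent.H439.Der.Three
import Cfsg.Agent.H503.El.O8
import Cfsg.Agent.H503.El.O8Fin
import Cfsg.Agent.S2607

/-!
# `Cos (Ω₈⁺(2))`: every outer coset contains elements of two different orders

An automorphism fixes the class of an element `y` of order `v` (here `7`); so every coset contains an element commuting
with `y`, and the order of its product with `y` is divisible by `v`.
-/

set_option autoImplicit false
set_option maxRecDepth 100000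

namespace Cfsg.Agent.H221.Der.CosOEight

open Subgroup Cfsg Cfsg.Agent Cfsg.Agent.H439.Der
open scoped Pointwise

/-- the general statement -/
theorem cos_of_inv {T : Type*} [Group T] [Finite T] (hZ : center T = ⊥) {v : ℕ} (hv : v.Prime) {y : T}
    (hy : orderOf y = v) (hinv : ∀ φ : MulAut T, ∃ t : T, φ y = t * y * t⁻¹)
    (hout : (Nat.card (Cfsg.Out T)).Coprime v) : Cos T := by
  classical
  intro φ hφ
  by_contra hcon
  push Not at hcon
  obtain ⟨t, ht⟩ := hinv φ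
  obtain ⟨ψ, hψ⟩ : ∃ ψ : MulAut T, ψ = MulAut.conj t⁻¹ * φ := ⟨_, rfl⟩
  have h1 : ψ y = y := by
    rw [hψ, MulAut.mul_apply, MulAut.conj_apply, ht]; group
  have h2 : orderOf ψ = orderOf φ := by rw [hψ]; exact hcon t⁻¹
  have h3 : orderOf (MulAut.conj y * ψ) = orderOf φ := by
    rw [hψ, ← mul_assoc, ← map_mul]; exact hcon _
  have hcomm : Commute (MulAut.conj y) ψ := by
    apply MulEquiv.ext
    intro x
    rw [MulAut.mul_apply, MulAut.mul_apply, MulAut.conj_apply, MulAut.conj_apply, map_mul, map_mul, map_inv, h1]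
  have h4 : v ∣ orderOf φ := by
    rw [← hy, orderOf_dvd_iff_pow_eq_one]
    have h5 := pow_orderOf_eq_one (MulAut.conj y * ψ)
    rw [h3, hcomm.mul_pow, ← h2, pow_orderOf_eq_one, mul_one, ← map_pow, h2] at h5
    have h6 : y ^ orderOf φ ∈ center T := by
      rw [Subgroup.mem_center_iff]
      intro x
      have := MulEquiv.congr_fun h5 x
      rw [MulAut.conj_apply, MulAut.one_apply, mul_inv_eq_iff_eq_mul] at this
      exact this.symm
    rw [hZ, Subgroup.mem_bot] at h6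
    exact h6
  -- a power of `ψ` in the coset
  obtain ⟨j, hj1, hj2⟩ := Nat.chineseRemainder hout 1 0
  have hj3 : v ∣ j := (Nat.modEq_zero_iff_dvd).1 hj2
  have h5 : ∃ s : T, ψ ^ j = MulAut.conj s * φ := by
    have h6 : (QuotientGroup.mk (ψ ^ j) : Cfsg.Out T) = QuotientGroup.mk ψ := by
      rw [QuotientGroup.mk_pow]
      have h7 : (QuotientGroup.mk ψ : Cfsg.Out T) ^ j = (QuotientGroup.mk ψ : Cfsg.Out T) ^ 1 :=
        pow_eq_pow_iff_modEq.2 (hj1.of_dvd (orderOf_dvd_natCard _))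
      rw [h7, pow_one]
    rw [hψ] at h6 ⊢
    have h8 : (QuotientGroup.mk ((MulAut.conj t⁻¹ * φ) ^ j) : Cfsg.Out T) = QuotientGroup.mk φ := by
      rw [h6, QuotientGroup.mk_mul, (QuotientGroup.eq_one_iff (MulAut.conj t⁻¹)).2
        (show MulAut.conj t⁻¹ ∈ Cfsg.Inn T from ⟨t⁻¹, rfl⟩), one_mul]
    have h9 : (MulAut.conj t⁻¹ * φ) ^ j * φ⁻¹ ∈ Cfsg.Inn T := by
      rw [← QuotientGroup.eq_one_iff, QuotientGroup.mk_mul, h8, QuotientGroup.mk_inv, mul_inv_cancel]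
    obtain ⟨s, hs⟩ := h9
    exact ⟨s, by rw [hs, inv_mul_cancel_right]⟩
  obtain ⟨s, hs⟩ := h5
  have h6 : orderOf (ψ ^ j) = orderOf φ := by rw [hs]; exact hcon s
  rw [orderOf_pow, h2] at h6
  have h7 : 0 < orderOf φ := orderOf_pos φ
  have h8 : 1 < Nat.gcd (orderOf φ) j := lt_of_lt_of_le hv.one_lt (Nat.le_of_dvd (Nat.gcd_pos_of_pos_left _ h7)
    (Nat.dvd_gcd h4 hj3))
  exact absurd h6 (Nat.div_lt_self h7 h8).ne

/-- the class of `y` is invariant -/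
theorem inv_of_powers {T : Type*} [Group T] [Finite T] {v : ℕ} (hv : v.Prime) {y : T} (hy : orderOf y = v)
    (hsyl : ¬ v ^ 2 ∣ Nat.card T) (hpow : ∀ k : ℕ, ¬ v ∣ k → ∃ t : T, t * y * t⁻¹ = y ^ k) (φ : MulAut T) :
    ∃ t : T, φ y = t * y * t⁻¹ := by
  classical
  have := Fact.mk hv
  have hfac : (Nat.card T).factorization v = 1 := by
    apply le_antisymm
    · by_contra h
      push Not at h
      exact hsyl ((hv.pow_dvd_iff_le_factorization Nat.card_pos.ne').2 h)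
    · rw [← hv.dvd_iff_one_le_factorization Nat.card_pos.ne', ← hy]
      exact orderOf_dvd_natCard y
  have hP : Nat.card (zpowers y) = v ^ (Nat.card T).factorization v := by
    rw [Nat.card_zpowers, hy, hfac, pow_one]
  have hQ : Nat.card (zpowers (φ y)) = v ^ (Nat.card T).factorization v := by
    rw [Nat.card_zpowers, hfac, pow_one, ← hy]
    exact orderOf_injective φ.toMonoidHom φ.injective y
  obtain ⟨g, hg⟩ := MulAction.exists_smul_eq T (Sylow.ofCard _ hQ) (Sylow.ofCard _ hP)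
  have h1 : g * φ y * g⁻¹ ∈ zpowers y := by
    have h2 : MulAut.conj g • φ y ∈ MulAut.conj g • (zpowers (φ y)) :=
      Subgroup.smul_mem_pointwise_smul _ _ _ (mem_zpowers (φ y))
    have h3 : ((g • Sylow.ofCard _ hQ : Sylow v T) : Subgroup T) = MulAut.conj g • (zpowers (φ y)) := rfl
    rw [← h3, hg] at h2
    exact h2
  obtain ⟨k, hk⟩ := (mem_powers_iff_mem_zpowers.2 h1)
  have h3 : ¬ v ∣ k := by
    intro h
    have h4 : y ^ k = 1 := by rw [← orderOf_dvd_iff_pow_eq_one, hy]; exact h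
    have h5 : g * φ y * g⁻¹ = 1 := hk.symm.trans h4
    have h6 : φ y = 1 := by
      rw [conj_eq_one_iff] at h5
      exact h5
    rw [map_eq_one_iff _ φ.injective] at h6
    rw [h6, orderOf_one] at hy
    exact hv.one_lt.ne hy
  obtain ⟨t, ht⟩ := hpow k h3
  refine ⟨g⁻¹ * t, ?_⟩
  have h4 : g * φ y * g⁻¹ = t * y * t⁻¹ := hk.symm.trans ht.symm
  have h5 : φ y = g⁻¹ * (g * φ y * g⁻¹) * g := by group
  rw [h5, h4]; group

section concrete

open Cfsg.Agent.H503.El.O8 Cfsg.Agent.H503.El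

def W0 : M8 := Matrix.fromBlocks !![0,0,0,0; 0,0,0,0; 0,0,0,0; 0,0,0,0] !![1,0,0,0; 0,1,0,0; 0,0,1,0; 0,0,0,1] !![1,0,0,0; 0,1,0,0; 0,0,1,0; 0,0,0,1] !![0,0,0,0; 0,0,0,0; 0,0,0,0; 0,0,0,0]
def Wy : M8 := Matrix.fromBlocks !![0,0,0,0; 0,0,0,0; 0,0,0,0; 0,0,0,0] !![0,1,0,0; 1,1,1,0; 0,1,1,0; 0,0,0,1] !![0,1,1,0; 1,0,0,0; 1,0,1,0; 0,0,0,1] !![0,0,0,0; 0,0,0,0; 0,0,0,0; 0,0,0,0]
def Ka : M8 := Matrix.fromBlocks !![0,0,0,0; 0,1,0,0; 0,0,0,0; 0,0,0,1] !![1,0,0,0; 0,0,0,0; 0,0,1,0; 0,0,0,0] !![1,0,0,0; 0,0,0,0; 0,0,1,0; 0,0,0,0] !![0,0,0,0; 0,1,0,0; 0,0,0,0; 0,0,0,1]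
def Kb : M8 := Matrix.fromBlocks !![0,1,0,0; 1,0,0,0; 0,0,0,1; 0,0,1,0] !![0,0,0,0; 0,0,0,0; 0,0,0,0; 0,0,0,0] !![0,0,0,0; 0,0,0,0; 0,0,0,0; 0,0,0,0] !![0,1,0,0; 1,0,0,0; 0,0,0,1; 0,0,1,0]
def Us : M8 := Matrix.fromBlocks !![0,0,1,0; 1,1,1,0; 1,0,0,0; 0,0,0,1] !![0,0,0,0; 0,0,0,0; 0,0,0,0; 0,0,0,0] !![0,0,0,0; 0,0,0,0; 0,0,0,0; 0,0,0,0] !![0,1,1,0; 0,1,0,0; 1,1,0,0; 0,0,0,1]
def Ut : M8 := Matrix.fromBlocks !![1,0,0,0; 0,1,0,0; 1,0,1,0; 0,0,0,1] !![0,0,0,0; 0,0,0,0; 0,0,0,0; 0,0,0,0] !![0,0,0,0; 0,0,0,0; 0,0,0,0; 0,0,0,0] !![1,0,1,0; 0,1,0,0; 0,0,1,0; 0,0,0,1]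

theorem W0_sq : W0 * W0 = 1 := by decide +kernel
theorem Wy_sq : Wy * Wy = 1 := by decide +kernel
theorem Ka_sq : Ka * Ka = 1 := by decide +kernel
theorem Kb_sq : Kb * Kb = 1 := by decide +kernel
theorem Us_sq : Us * Us = 1 := by decide +kernel
theorem Ut_sq : Ut * Ut = 1 := by decide +kernel

theorem W0_iso : ∀ v, Q8 (W0.mulVec v) = Q8 v := by decide +kernel
theorem Wy_iso : ∀ v, Q8 (Wy.mulVec v) = Q8 v := by decide +kernel
theorem Ka_iso : ∀ v, Q8 (Ka.mulVec v) = Q8 v := by decide +kernel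
theorem Kb_iso : ∀ v, Q8 (Kb.mulVec v) = Q8 v := by decide +kernel
theorem Us_iso : ∀ v, Q8 (Us.mulVec v) = Q8 v := by decide +kernel
theorem Ut_iso : ∀ v, Q8 (Ut.mulVec v) = Q8 v := by decide +kernel

/-- the products -/
def Y : M8 := W0 * Wy * W0 * Wy
def V : M8 := Ka * Kb * Ka * Kb
def U : M8 := Us * Ut * Us * Ut

theorem Y_props : Y ^ 7 = 1 ∧ Y ≠ 1 := by decide +kernel
theorem V_conj : V * Y = Y ^ 6 * V := by decide +kernel
theorem U_conj : U * Y = Y ^ 2 * U := by decide +kernel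

/-- the elements -/
def y : S8 := comOf W0 Wy W0_sq Wy_sq W0_iso Wy_iso
def u : S8 := comOf Us Ut Us_sq Ut_sq Us_iso Ut_iso
def w : S8 := comOf Ka Kb Ka_sq Kb_sq Ka_iso Kb_iso

theorem rho_y : rho y = Y := rho_comOf _ _ _ _ _ _
theorem rho_u : rho u = U := rho_comOf _ _ _ _ _ _
theorem rho_w : rho w = V := rho_comOf _ _ _ _ _ _

attribute [irreducible] y u w
attribute [local irreducible] Y U V

theorem order_y : orderOf y = 7 := by
  have : Fact (Nat.Prime 7) := ⟨by norm_num⟩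
  exact orderOf_eq_prime (rho_injective (by rw [map_pow, rho_y, map_one]; exact Y_props.1))
    (fun h => Y_props.2 (by rw [← rho_y, h, map_one]))

theorem w_conj : w * y * w⁻¹ = y ^ 6 := by
  rw [mul_inv_eq_iff_eq_mul]
  apply rho_injective
  rw [map_mul, map_mul, map_pow, rho_w, rho_y]
  exact V_conj

theorem u_conj : u * y * u⁻¹ = y ^ 2 := by
  rw [mul_inv_eq_iff_eq_mul]
  apply rho_injective
  rw [map_mul, map_mul, map_pow, rho_u, rho_y]
  exact U_conj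

/-- powers -/
theorem powers {S : Type*} [Group S] {y u w : S} (hy : y ^ 7 = 1) (hw : w * y * w⁻¹ = y ^ 6)
    (hu : u * y * u⁻¹ = y ^ 2) (k : ℕ) (hk : ¬ 7 ∣ k) : ∃ t : S, t * y * t⁻¹ = y ^ k := by
  have hmod : ∀ k : ℕ, y ^ k = y ^ (k % 7) := fun k => by
    conv_lhs => rw [← Nat.div_add_mod k 7, pow_add, pow_mul, hy, one_pow, one_mul]
  have hpw : ∀ (t : S) (j k : ℕ), t * y * t⁻¹ = y ^ j → t * y ^ k * t⁻¹ = y ^ (j * k) := by
    intro t j k h
    rw [← conj_pow, h, ← pow_mul]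
  have h2 : u ^ 2 * y * (u ^ 2)⁻¹ = y ^ 4 := by
    rw [show u ^ 2 * y * (u ^ 2)⁻¹ = u * (u * y * u⁻¹) * u⁻¹ by simp only [pow_two, mul_inv_rev, mul_assoc], hu, hpw u 2 2 hu]
  have hlt : k % 7 < 7 := Nat.mod_lt _ (by norm_num)
  have hne : k % 7 ≠ 0 := fun h => hk (Nat.dvd_of_mod_eq_zero h)
  rw [hmod k]
  rcases (show k % 7 = 1 ∨ k % 7 = 2 ∨ k % 7 = 3 ∨ k % 7 = 4 ∨ k % 7 = 5 ∨ k % 7 = 6 by omega) with
    h | h | h | h | h | h <;> rw [h]
  · exact ⟨1, by simp⟩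
  · exact ⟨u, hu⟩
  · refine ⟨w * u ^ 2, ?_⟩
    rw [show w * u ^ 2 * y * (w * u ^ 2)⁻¹ = w * (u ^ 2 * y * (u ^ 2)⁻¹) * w⁻¹ by group, h2, hpw w 6 4 hw, hmod]
  · exact ⟨u ^ 2, h2⟩
  · refine ⟨w * u, ?_⟩
    rw [show w * u * y * (w * u)⁻¹ = w * (u * y * u⁻¹) * w⁻¹ by group, hu, hpw w 6 2 hw, hmod]
  · exact ⟨w, hw⟩

/-- **`Ω₈⁺(2)`.** -/
theorem cos_o8p2 {F : Type} [Field F] [Fintype F] (hF : Fintype.card F = 2) :
    Cfsg.Agent.H439.Der.Cos (Cfsg.POmega F (Cfsg.quadFormPlus 4 F)) := by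
  classical
  obtain ⟨E, hE⟩ : ∃ E : S8 ≃* POmega F (quadFormPlus 4 F), E = e8.trans (pomCongr hF) := ⟨_, rfl⟩
  have hcard : Nat.card (POmega F (quadFormPlus 4 F)) = 174182400 := by
    rw [← Nat.card_congr (pomCongr hF).toEquiv]; exact card_t8
  have hfin : Finite (POmega F (quadFormPlus 4 F)) := Nat.finite_of_card_ne_zero (by rw [hcard]; norm_num)
  have hy : orderOf (E y) = 7 := by
    rw [← order_y]; exact orderOf_injective E.toMonoidHom E.injective y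
  have hsimp : IsSimpleGroup (POmega F (quadFormPlus 4 F)) :=
    (MulEquiv.isSimpleGroup_congr (pomCongr hF)).1 inferInstance
  refine cos_of_inv (v := 7) ?_ (by norm_num) hy (inv_of_powers (by norm_num) hy (by rw [hcard]; norm_num) ?_) ?_
  · rw [eq_bot_iff]
    intro z hz
    have h1 : E.symm z ∈ center S8 := by
      rw [Subgroup.mem_center_iff] at hz ⊢
      intro x
      apply E.injective
      rw [map_mul, map_mul, MulEquiv.apply_symm_apply]
      exact hz _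
    rw [center_s8, Subgroup.mem_bot] at h1
    rw [Subgroup.mem_bot, ← MulEquiv.apply_symm_apply E z, h1, map_one]
  · intro k hk
    refine powers (u := E u) (w := E w) ?_ ?_ ?_ k hk
    · rw [← map_pow, ← order_y, pow_orderOf_eq_one, map_one]
    · rw [← map_mul, ← map_inv, ← map_mul, w_conj, map_pow]
    · rw [← map_mul, ← map_inv, ← map_mul, u_conj, map_pow]
  · obtain ⟨e⟩ := by simpa using S2607.result (F := F) (f := 1) (m := 4) le_rfl (by rw [hF]; norm_num) le_rfl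
    rw [Nat.card_congr e.toEquiv, Nat.card_prod]
    simp [Nat.card_eq_fintype_card, Fintype.card_perm]
    decide

end concrete

end Cfsg.Agent.H221.Der.CosOEight
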