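import Mathlib
import Cfsg.Agent.H374.P4.OutSp
import Cfsg.Agent.H439.Der.Three

/-!
# `Cos (PSp₄(4))`: every outer coset contains elements of two different orders
-/

set_option autoImplicit false

namespace Cfsg.Agent.H221.Der.CosSFour

open Subgroup Cfsg Cfsg.Agent Matrix
open Cfsg.Agent.ClassicalGeometry.SympBasic Cfsg.Agent.ClassicalGeometry.SympAutSemi
open Cfsg.Agent.ClassicalGeometry.SympGamma
open Cfsg.Agent.H374.P4.SemiSp Cfsg.Agent.H374.P4.OutSp
open Cfsg.Agent.ClassicalGeometry.Sp4GraphAut Cfsg.Agent.ClassicalGeometry.Sp4Graph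

variable {F : Type} [Field F] [Fintype F]

local notation "Sp" => Matrix.symplecticGroup (Fin 2) F

/-- every automorphism is an inner one times a power of `gamma` -/
theorem exists_rep [CharP F 2] (ht : ∃ t : F, t ≠ 0 ∧ t ≠ 1) (α : MulAut (PSp 2 F)) :
    ∃ (a : PSp 2 F) (k : ℕ), α = MulAut.conj a * gamma F ^ k := by
  classical
  have hidx2 : (Psi 2 F).range.index = 2 := by
    refine ClassicalGeometry.SympAutTwo.index_two ht ?_
    intro α hα
    obtain ⟨g, hg⟩ := ClassicalGeometry.SympAutExists.exists_semi le_rfl α hα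
    exact ⟨g, hg⟩
  have hsq : ∀ l : F, l ≠ 0 → ∃ s : Fˣ, l = (s : F) ^ 2 := by
    intro l hl
    obtain ⟨s, hs⟩ := FiniteField.isSquare_of_char_two (ringChar.eq F 2) l
    have hs0 : s ≠ 0 := by
      rintro rfl
      rw [mul_zero] at hs
      exact hl hs
    exact ⟨Units.mk0 s hs0, by rw [hs, Units.val_mk0, pow_two]⟩
  have hrep : ∀ α ∈ (Psi 2 F).range, ∃ (a : PSp 2 F) (k : ℕ), α = MulAut.conj a * gamma F ^ k := by
    rintro _ ⟨g, rfl⟩
    obtain ⟨φ, l, hl, hsem⟩ := id g.2
    obtain ⟨s, hs⟩ := hsq l hl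
    rw [hs] at hsem
    obtain ⟨A, hA⟩ := exists_inner hsem
    obtain ⟨k, hk⟩ := exists_gamma_pow φ
    exact ⟨pr A, 2 * k, by rw [hA, hk]⟩
  by_cases hα : α ∈ (Psi 2 F).range
  · exact hrep α hα
  · have h1 : α * (gamma F)⁻¹ ∈ (Psi 2 F).range := by
      rw [Subgroup.mul_mem_iff_of_index_two hidx2, inv_mem_iff]
      exact iff_of_false hα gamma_not_mem
    obtain ⟨a, k, hk⟩ := hrep _ h1
    exact ⟨a, k + 1, by rw [pow_succ, ← mul_assoc, ← hk, inv_mul_cancel_right]⟩

/-- the entries of an element of order `5` of `Sz(2)` -/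
def c0 (R : Type*) [Zero R] [One R] : I4 → I4 → R
  | .inl _, .inl _ => 0
  | .inl i, .inr j => if i = j then 1 else 0
  | .inr i, .inl j => if i = j then 1 else 0
  | .inr i, .inr j => if i = 0 then 1 else if j = 0 then 1 else 0

/-- the matrix -/
def cM (R : Type*) [Zero R] [One R] : Matrix I4 I4 R := Matrix.of (c0 R)

omit [Fintype F] in
theorem cM_mem [CharP F 2] : cM F ∈ Matrix.symplecticGroup (Fin 2) F := by
  have hadd : ∀ z : F, z + z = 0 := CharTwo.add_self_eq_zero
  apply mem_of_row_rel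
  intro i j
  rcases i with i | i <;> rcases j with j | j <;> fin_cases i <;> fin_cases j <;>
    simp [cM, c0, hadd]

omit [Fintype F] in
theorem mn_cM [CharP F 2] : mn (cM F) = cM F := by
  have hadd : ∀ z : F, z + z = 0 := CharTwo.add_self_eq_zero
  ext i j
  rw [mn_apply]
  rcases i with i | i <;> rcases j with j | j <;> fin_cases i <;> fin_cases j <;>
    simp [cM, c0, pa, pb, hadd]

/-- the element of `Sp₄` -/
def c1 (F : Type) [Field F] [CharP F 2] : Matrix.symplecticGroup (Fin 2) F := ⟨cM F, cM_mem⟩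

omit [Fintype F] in
theorem c1_pow [CharP F 2] : c1 F ^ 4 ≠ 1 := by
  intro h
  have hadd : ∀ z : F, z + z = 0 := CharTwo.add_self_eq_zero
  have h1 : (c1 F : Matrix I4 I4 F) * c1 F * (c1 F * c1 F) = 1 := by
    have : c1 F * c1 F * (c1 F * c1 F) = 1 := by rw [← h, ← pow_two, ← pow_two, ← pow_mul]
    exact congrArg Subtype.val this
  have h2 := congrFun (congrFun h1 (.inl 0)) (.inl 1)
  rw [mul_eq] at h2
  simp only [mul_eq] at h2
  simp [c1, cM, c0, hadd] at h2

/-- **Main theorem.** -/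
theorem cos_s44 (hF : Fintype.card F = 4) : Cfsg.Agent.H439.Der.Cos (Cfsg.PSp 2 F) := by
  classical
  have hch : CharP F 2 := by
    refine Cfsg.Agent.H374.P4.charP_of_card (n := 2) Nat.prime_two (by rw [hF]; norm_num)
  have ht : ∃ t : F, t ≠ 0 ∧ t ≠ 1 := by
    by_contra hcon
    push Not at hcon
    have h3 : Fintype.card F ≤ 2 := by
      have : (Finset.univ : Finset F) ⊆ {0, 1} := by
        intro t _
        by_cases h0 : t = 0
        · simp [h0]
        · simp [hcon t h0]
      exact (Finset.card_le_card this).trans (Finset.card_le_two)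
    omega
  have hg4 : gamma F ^ 4 = 1 := by
    have h1 : gamma F ^ 4 = fr ((frobeniusEquiv F 2) ^ 2) := by
      rw [map_pow, ← gamma_sq, ← pow_two, ← pow_mul]
    rw [h1]
    have h2 : (frobeniusEquiv F 2) ^ 2 = 1 := by
      apply RingEquiv.ext
      intro x
      rw [frob_pow]
      have := FiniteField.pow_card x
      rw [hF] at this
      exact this
    rw [h2, map_one]
  have hfix : gamma F (QuotientGroup.mk (c1 F)) = QuotientGroup.mk (c1 F) := by
    rw [gamma_mk]
    congr 1
    exact Subtype.ext mn_cM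
  have hc4 : (QuotientGroup.mk (c1 F) : PSp 2 F) ^ 4 ≠ 1 := by
    intro h
    rw [← QuotientGroup.mk_pow] at h
    exact c1_pow (mk_injective (by norm_num) (h.trans (QuotientGroup.mk_one _).symm))
  intro φ hφ
  by_contra hcon
  push Not at hcon
  obtain ⟨a, k, rfl⟩ := exists_rep ht φ
  have h1 := hcon a⁻¹
  have h2 := hcon (QuotientGroup.mk (c1 F) * a⁻¹)
  rw [← mul_assoc, ← map_mul, inv_mul_cancel, map_one, one_mul] at h1
  rw [← mul_assoc, ← map_mul, inv_mul_cancel_right, ← h1] at h2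
  have h3 : orderOf (gamma F ^ k) ∣ 4 := by
    rw [orderOf_dvd_iff_pow_eq_one, ← pow_mul, mul_comm, pow_mul, hg4, one_pow]
  rw [← h2, orderOf_dvd_iff_pow_eq_one] at h3
  have hcomm : Commute (MulAut.conj (QuotientGroup.mk (c1 F) : PSp 2 F)) (gamma F) := by
    apply MulEquiv.ext
    intro x
    rw [MulAut.mul_apply, MulAut.mul_apply, MulAut.conj_apply, MulAut.conj_apply, map_mul, map_mul, map_inv, hfix]
  rw [(hcomm.pow_right k).mul_pow, ← pow_mul, mul_comm k 4, pow_mul, hg4, one_pow, mul_one, ← map_pow] at h3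
  have h4 : ∀ x : PSp 2 F, (QuotientGroup.mk (c1 F) : PSp 2 F) ^ 4 * x = x * (QuotientGroup.mk (c1 F) : PSp 2 F) ^ 4 := by
    intro x
    have := MulEquiv.congr_fun h3 x
    rw [MulAut.conj_apply, MulAut.one_apply, mul_inv_eq_iff_eq_mul] at this
    exact this
  have h5 : c1 F ^ 4 ∈ Subgroup.center (Matrix.symplecticGroup (Fin 2) F) := by
    rw [Subgroup.mem_center_iff]
    intro A
    have h6 := h4 (QuotientGroup.mk A)
    rw [← QuotientGroup.mk_pow, ← QuotientGroup.mk_mul, ← QuotientGroup.mk_mul] at h6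
    exact (mk_injective (by norm_num) h6).symm
  rw [center_eq_bot (by norm_num), Subgroup.mem_bot] at h5
  exact c1_pow h5

end Cfsg.Agent.H221.Der.CosSFour
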