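import Cfsg.Agent.H221.Der.Core
import Cfsg.Agent.H768.Der.Ree

/-!
# Three classes of derangements: the Ree groups (S3502, helper221)

`rowS_ree`.
-/

set_option autoImplicit false

namespace Cfsg.Agent.H221.Der

open MulAction Subgroup Cfsg Cfsg.Agent.H947.El Cfsg.Agent.H439.Der Cfsg.Agent.H768.Der

/-- `19` for `q = 27` -/
theorem reeN_19 : ReeN 1 27 9 19 := by
  have hord : orderOf ((3 : ℕ) : ZMod 19) = 18 := by
    rw [orderOf_eq_iff (by norm_num)]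
    refine ⟨by decide, ?_⟩
    decide
  exact ⟨by norm_num, by norm_num, by norm_num, by norm_num, by norm_num, by norm_num, by norm_num, by norm_num,
    by norm_num,
    fun j => by rw [Cfsg.Agent.Lib.Zsigmondy.dvd_pow_sub_one_iff (by norm_num), hord], by norm_num, by norm_num,
    by norm_num, by norm_num, by norm_num, by norm_num, by norm_num, by norm_num⟩

variable {K : Type} [Field K] [Fintype K] {m : ℕ}

/-- the tori of order `q ± r + 1` -/
theorem ree_torus (hm : 1 ≤ m) (hK : Fintype.card K = 3 ^ (2 * m + 1)) {a : ℕ}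
    (ha : a = 3 ^ (2 * m + 1) - 3 ^ (m + 1) + 1 ∨ a = 3 ^ (2 * m + 1) + 3 ^ (m + 1) + 1) :
    ∃ y : ↥(Cfsg.Lie.twistedG2 K (3 ^ m)), orderOf y = a ∧ ∀ z ∈ zpowers y, z ≠ 1 →
      Nat.card (normalizer (zpowers z : Set ↥(Cfsg.Lie.twistedG2 K (3 ^ m)))) ≤
        6 * Nat.card (centralizer ({z} : Set ↥(Cfsg.Lie.twistedG2 K (3 ^ m)))) := by
  have hfin : Finite ↥(Cfsg.Lie.twistedG2 K (3 ^ m)) := inferInstance
  have h1158 := Cfsg.Agent.S1158.result hm hK
  obtain ⟨A, hAc, hAk, hAn, hA0⟩ := h1158 (a, 6 * a) (by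
    rcases ha with rfl | rfl <;> simp)
  simp only at hAk hAn
  obtain ⟨g, hg⟩ := hAc.exists_generator
  have hzp : zpowers (g : ↥(Cfsg.Lie.twistedG2 K (3 ^ m))) = A := by
    refine le_antisymm (zpowers_le.2 g.2) fun x hx => ?_
    obtain ⟨j, hj⟩ := mem_zpowers_iff.1 (hg ⟨x, hx⟩)
    exact ⟨j, congrArg Subtype.val hj⟩
  refine ⟨g, by rw [← Nat.card_zpowers, hzp, hAk], fun z hz hz1 => ?_⟩
  have h1 := hA0 (zpowers z) (by rw [← hzp, zpowers_le]; exact hz) (by rwa [Ne, zpowers_eq_bot])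
  rw [h1, hAn, ← hAk]
  refine Nat.mul_le_mul_left 6 (Subgroup.card_le_of_le fun x hx => ?_)
  rw [Subgroup.mem_centralizer_singleton_iff]
  rw [hzp] at hz
  exact congrArg Subtype.val (hAc.commGroup.mul_comm (⟨x, hx⟩ : A) ⟨z, hz⟩)

/-- classes of elements of order divisible by a prime divisor `ρ` of `q ± r + 1` -/
theorem ree_exists_P (hm : 1 ≤ m) (hK : Fintype.card K = 3 ^ (2 * m + 1)) {a : ℕ}
    (ha : a = 3 ^ (2 * m + 1) - 3 ^ (m + 1) + 1 ∨ a = 3 ^ (2 * m + 1) + 3 ^ (m + 1) + 1) {ρ : ℕ} (hρ : ρ.Prime)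
    (hρa : ρ ∣ a) : ∃ P : Finset ↥(Cfsg.Lie.twistedG2 K (3 ^ m)), (∀ z ∈ P, ρ ∣ orderOf z) ∧
      (∀ z ∈ P, Nat.card {w : ↥(Cfsg.Lie.twistedG2 K (3 ^ m)) // w ∈ P ∧ ∃ g : ↥(Cfsg.Lie.twistedG2 K (3 ^ m)),
        g * z * g⁻¹ = w} ≤ 6) ∧ a - a / ρ ≤ P.card := by
  classical
  have hfin : Finite ↥(Cfsg.Lie.twistedG2 K (3 ^ m)) := inferInstance
  have := Fintype.ofFinite ↥(Cfsg.Lie.twistedG2 K (3 ^ m))
  obtain ⟨y, hy, hN⟩ := ree_torus hm hK ha
  refine ⟨Finset.univ.filter fun z => z ∈ zpowers y ∧ ρ ∣ orderOf z, fun z hz => (Finset.mem_filter.1 hz).2.2,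
    conj_card_le (y := y) (fun z hz => (Finset.mem_filter.1 hz).2.1) (fun z hz => ?_), ?_⟩
  · obtain ⟨-, h1, h2⟩ := Finset.mem_filter.1 hz
    refine hN z h1 ?_
    rintro rfl
    rw [orderOf_one] at h2
    exact hρ.one_lt.ne' (Nat.dvd_one.1 h2)
  · have := card_filter_ge (y := y) hρ (by rw [hy]; exact hρa)
    rwa [hy] at this

theorem num_le27 (m : ℕ) (hm : 2 ≤ m) : 27 * (2 * m + 1) < 3 ^ (2 * m + 1) := by
  induction m, hm using Nat.le_induction with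
  | base => norm_num
  | succ k hk ih =>
    have : 3 ^ (2 * (k + 1) + 1) = 9 * 3 ^ (2 * k + 1) := by ring
    rw [this]
    omega

theorem num_le4 (m : ℕ) (hm : 1 ≤ m) : 4 * (2 * m + 1) + 3 < 3 ^ (2 * m + 1) := by
  induction m, hm using Nat.le_induction with
  | base => norm_num
  | succ k hk ih =>
    have : 3 ^ (2 * (k + 1) + 1) = 9 * 3 ^ (2 * k + 1) := by ring
    rw [this]
    omega

theorem ree_not_SCC_rho (hm : 2 ≤ m) (hK : Fintype.card K = 3 ^ (2 * m + 1)) {ρ : ℕ}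
    (n : ReeN m (3 ^ (2 * m + 1)) (3 ^ (m + 1)) ρ) : ¬ SCC ↥(Cfsg.Lie.twistedG2 K (3 ^ m)) ρ := by
  have hfin : Finite ↥(Cfsg.Lie.twistedG2 K (3 ^ m)) := inferInstance
  have hρd := n.dvd
  rw [n.fac] at hρd
  obtain ⟨a, ha, hρa⟩ : ∃ a, (a = 3 ^ (2 * m + 1) - 3 ^ (m + 1) + 1 ∨ a = 3 ^ (2 * m + 1) + 3 ^ (m + 1) + 1) ∧ ρ ∣ a := by
    rcases n.pr.dvd_mul.1 hρd with h2 | h2
    · exact ⟨_, Or.inl rfl, h2⟩
    · exact ⟨_, Or.inr rfl, h2⟩
  obtain ⟨P, hP1, hP2, hP3⟩ := ree_exists_P (by omega) hK ha n.pr hρa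
  refine not_SCC_of_card hP1 hP2 (Cfsg.Agent.S2127.result (by omega) hK).le (lt_of_lt_of_le ?_ hP3)
  have h1 := num_le27 m hm
  have h2 : 9 * 3 ^ (m + 1) ≤ 3 ^ (2 * m + 1) := by
    calc 9 * 3 ^ (m + 1) = 3 ^ (m + 3) := by ring
      _ ≤ _ := Nat.pow_le_pow_right (by norm_num) (by omega)
  have h3 : a / ρ ≤ a / 2 := Nat.div_le_div_left n.pr.two_le (by norm_num)
  rcases ha with ha | ha <;> omega

theorem ree_not_SC_37 (hK : Fintype.card K = 3 ^ (2 * 1 + 1)) : ¬ SC ↥(Cfsg.Lie.twistedG2 K (3 ^ 1)) 37 := by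
  have hfin : Finite ↥(Cfsg.Lie.twistedG2 K (3 ^ 1)) := inferInstance
  obtain ⟨P, hP1, hP2, hP3⟩ := ree_exists_P le_rfl hK (a := 37) (Or.inr (by norm_num)) (ρ := 37) (by norm_num) dvd_rfl
  refine not_SC_of_card hP1 hP2 (Cfsg.Agent.S2127.result le_rfl hK).le (lt_of_lt_of_le ?_ hP3)
  norm_num

/-- the prime divisors of `(q - 1) / 2` -/
theorem ree_not_SCC_s (hm : 1 ≤ m) (hK : Fintype.card K = 3 ^ (2 * m + 1)) {ρ : ℕ}
    (n : ReeN m (3 ^ (2 * m + 1)) (3 ^ (m + 1)) ρ) {s : ℕ} (hs : s.Prime) (hsd : s ∣ (3 ^ (2 * m + 1) - 1) / 2) :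
    ¬ SCC ↥(Cfsg.Lie.twistedG2 K (3 ^ m)) s := by
  classical
  have hfin : Finite ↥(Cfsg.Lie.twistedG2 K (3 ^ m)) := inferInstance
  have hft := Fintype.ofFinite ↥(Cfsg.Lie.twistedG2 K (3 ^ m))
  have F := reeF hm hK n
  have hord := Cfsg.Agent.S1159.result hm hK
  have hq4 := n.q4
  have hq27 := n.q27
  have hq3 := n.q3
  have hnum := num_le4 m hm
  obtain ⟨q, hq⟩ : ∃ q, q = 3 ^ (2 * m + 1) := ⟨_, rfl⟩
  obtain ⟨y, hy⟩ := (hord (3 ^ (2 * m + 1) - 1)).2 (Or.inr (Or.inr (Or.inl dvd_rfl)))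
  obtain ⟨x, hx⟩ := (hord ((3 ^ (2 * m + 1) - 1) / 2)).2 (Or.inr (Or.inr (Or.inl (Nat.div_dvd_of_dvd (by omega)))))
  have hsq : s ∣ 3 ^ (2 * m + 1) - 1 := hsd.trans (Nat.div_dvd_of_dvd (by omega))
  obtain ⟨z, hz⟩ := (hord s).2 (Or.inr (Or.inr (Or.inl hsq)))
  have hs2 : s ≠ 2 := by
    rintro rfl
    omega
  have hs3 : s ≠ 3 := by
    rintro rfl
    omega
  by_cases hsq' : s = (3 ^ (2 * m + 1) - 1) / 2
  · -- `(q - 1) / 2` is a prime
    have hw : orderOf (y ^ 2) = s := by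
      rw [orderOf_pow_of_dvd (by norm_num) (by rw [hy]; omega), hy, hsq']
    have h3 : 3 < s := by
      have := hs.two_le
      omega
    have hyC : ∀ z ∈ zpowers (y ^ 2), Nat.card (zpowers y) ≤
        Nat.card (centralizer ({z} : Set ↥(Cfsg.Lie.twistedG2 K (3 ^ m)))) := by
      intro z hz
      refine Subgroup.card_le_of_le ?_
      rw [zpowers_le, Subgroup.mem_centralizer_singleton_iff]
      obtain ⟨j, rfl⟩ := hz
      show y * (y ^ 2) ^ j = (y ^ 2) ^ j * y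
      rw [← zpow_natCast, ← zpow_mul]
      exact ((Commute.refl y).zpow_right _)
    have hN : ∀ z ∈ zpowers (y ^ 2), s ∣ orderOf z →
        Nat.card (normalizer (zpowers z : Set ↥(Cfsg.Lie.twistedG2 K (3 ^ m)))) ≤
          2 * Nat.card (centralizer ({z} : Set ↥(Cfsg.Lie.twistedG2 K (3 ^ m)))) := by
      intro z hz hsz
      have hzo : orderOf z = s := Nat.dvd_antisymm (hw ▸ orderOf_dvd_of_mem_zpowers hz) hsz
      obtain ⟨A, hAc, hEA, hA⟩ := F.norm s hs h3 (zpowers z) (by rw [Nat.card_zpowers, hzo])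
      have hsA : s ∣ Nat.card A := by
        have := Subgroup.card_dvd_of_le hEA
        rwa [Nat.card_zpowers, hzo] at this
      have hC := hyC z hz
      rw [Nat.card_zpowers, hy] at hC
      have hno : ∀ b, s ∣ b → b ∣ 3 ^ (2 * m + 1) + 1 → False := by
        intro b h1 h2
        have h4 : s ∣ 3 ^ (2 * m + 1) + 1 - (3 ^ (2 * m + 1) - 1) := Nat.dvd_sub (h1.trans h2) hsq
        rw [show 3 ^ (2 * m + 1) + 1 - (3 ^ (2 * m + 1) - 1) = 2 by omega] at h4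
        exact hs2 ((Nat.prime_dvd_prime_iff_eq hs Nat.prime_two).1 h4)
      rcases hA with ⟨hA1, hA2⟩ | ⟨hA1, -⟩ | ⟨hA1, -⟩
      · rw [hA2]
        omega
      · exact (hno _ hsA ⟨4, by omega⟩).elim
      · exfalso
        have h4 : s ∣ (3 ^ (2 * m + 1)) ^ 2 - 3 ^ (2 * m + 1) + 1 := by
          rw [n.fac]
          rcases hA1 with hA1 | hA1
          · rw [hA1] at hsA
            exact hsA.mul_right _
          · rw [hA1] at hsA
            exact hsA.mul_left _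
        rw [← hq] at h4 hsq
        have h5 : q ^ 2 - q = (q - 1) * q := by rw [Nat.sub_mul, one_mul, pow_two]
        rw [h5] at h4
        exact hs.one_lt.ne' (Nat.dvd_one.1 ((Nat.dvd_add_right (hsq.mul_right _)).1 h4))
    let P : Finset ↥(Cfsg.Lie.twistedG2 K (3 ^ m)) := Finset.univ.filter fun z => z ∈ zpowers (y ^ 2) ∧ s ∣ orderOf z
    have hPc : s - s / s ≤ P.card := by
      have := card_filter_ge (y := y ^ 2) hs (by rw [hw])
      rwa [hw] at this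
    rw [Nat.div_self hs.pos] at hPc
    obtain ⟨u, hu, hxu⟩ := exists_ne_of_card (P := P) (n := 2) (o := 2 * m + 1)
      (conj_card_le (y := y ^ 2) (fun z hz => (Finset.mem_filter.1 hz).2.1)
        (fun z hz => hN z (Finset.mem_filter.1 hz).2.1 (Finset.mem_filter.1 hz).2.2))
      (Cfsg.Agent.S2127.result hm hK).le (by omega) (y ^ 2)
    have huo : orderOf u = s := Nat.dvd_antisymm (hw ▸ orderOf_dvd_of_mem_zpowers (Finset.mem_filter.1 hu).2.1)
      (Finset.mem_filter.1 hu).2.2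
    refine not_SCC_of_three (x := y ^ 2) (y := u) (z := y) (by rw [hw]) (by rw [huo]) (by rw [hy]; exact hsq) hxu
      (fun φ hφ => ?_) (fun φ hφ => ?_)
    · have h5 := Cfsg.Agent.H938.Sax.orderOf_mulEquiv φ (y ^ 2)
      rw [hφ, hw, hy] at h5
      omega
    · have h5 := Cfsg.Agent.H938.Sax.orderOf_mulEquiv φ u
      rw [hφ, huo, hy] at h5
      omega
  · refine not_SCC_of_orders (x := y) (y := x) (z := z) (by rw [hy]; exact hsq) (by rw [hx]; exact hsd) (by rw [hz])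
      (by rw [hy, hx]; omega) (by
        rw [hy, hz]
        intro h
        have h1 : 2 ∣ s := by omega
        exact hs2 ((Nat.prime_dvd_prime_iff_eq Nat.prime_two hs).1 h1).symm) (by
        rw [hx, hz]
        exact fun h => hsq' h.symm)

theorem three_ree_aux (hm : 1 ≤ m) (hK : Fintype.card K = 3 ^ (2 * m + 1))
    (M : Subgroup ↥(Cfsg.Lie.twistedG2 K (3 ^ m))) (hM : M ≠ ⊤) : Three ↥(Cfsg.Lie.twistedG2 K (3 ^ m)) M := by
  have hfin : Finite ↥(Cfsg.Lie.twistedG2 K (3 ^ m)) := inferInstance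
  obtain ⟨ρ, n, -⟩ := exists_rho m hm
  have hq4 := n.q4
  have hq27 := n.q27
  have hord := Cfsg.Agent.S1159.result hm hK
  obtain ⟨s, hs, hsd⟩ := Nat.exists_prime_and_dvd (n := (3 ^ (2 * m + 1) - 1) / 2) (by omega)
  have hsq : s ∣ 3 ^ (2 * m + 1) - 1 := hsd.trans (Nat.div_dvd_of_dvd (by omega))
  have hS : ¬ s ∣ Nat.card M → Three ↥(Cfsg.Lie.twistedG2 K (3 ^ m)) M := fun h =>
    Three.of_not_dvd h (ree_not_SCC_s hm hK n hs hsd)
      (((hord s).2 (Or.inr (Or.inr (Or.inl hsq)))).imp fun x hx => by rw [hx])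
  by_cases hsM : s ∣ Nat.card M
  · rcases Nat.lt_or_ge 1 m with hm2 | hm1
    · have hρM : ¬ ρ ∣ Nat.card M := fun h => hM (eq_top (reeF hm hK n) n M h hs hsd hsM)
      refine Three.of_not_dvd hρM (ree_not_SCC_rho hm2 hK n) ?_
      have hρR : ρ ∣ Nat.card ↥(Cfsg.Lie.twistedG2 K (3 ^ m)) := by
        rw [(reeF hm hK n).card, n.cube]; exact (n.dvd.mul_left _).mul_left _
      have := Fact.mk n.pr
      obtain ⟨x, hx⟩ := exists_prime_orderOf_dvd_card' ρ hρR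
      exact ⟨x, by rw [hx]⟩
    · have hm1' : m = 1 := by omega
      subst hm1'
      have n19 : ReeN 1 (3 ^ (2 * 1 + 1)) (3 ^ (1 + 1)) 19 := reeN_19
      have n37 : ReeN 1 (3 ^ (2 * 1 + 1)) (3 ^ (1 + 1)) 37 := reeN_37
      have h37 : ¬ 37 ∣ Nat.card M := fun h => hM (eq_top (reeF hm hK n37) n37 M h hs hsd hsM)
      have h19 : ¬ 19 ∣ Nat.card M := fun h => hM (eq_top (reeF hm hK n19) n19 M h hs hsd hsM)
      refine Three.of_two_primes (v := 37) (w := 19) (by norm_num) (by norm_num) (by norm_num) ?_ h37 h19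
        (ree_not_SC_37 hK)
      rw [(reeF hm hK n19).card, n19.cube]
      exact (n19.dvd.mul_left _).mul_left _
  · exact hS hsM

theorem three_ree {T : Type*} [Group T] (h : Cfsg.Lie.IsoRee T) (M : Subgroup T) (hM : M ≠ ⊤) : Three T M := by
  obtain ⟨K, iK, iK', m, hm, hK, ⟨e⟩⟩ := h
  refine Three.congr e.symm (three_ree_aux hm hK _ fun ht => hM ?_)
  rw [eq_top_iff]
  intro x _
  have : e x ∈ M.comap e.symm.toMonoidHom := by rw [ht]; trivial
  simpa using this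

/-- **the Ree groups** -/
theorem rowS_ree {T : Type*} [Group T] (h : Cfsg.Lie.IsoRee T) : RowS T :=
  ⟨fun M hM => (three_ree h M hM.1).two, fun R hR _ => three_ree h R hR⟩

end Cfsg.Agent.H221.Der
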