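import Cfsg.Agent.H221.Der.Core
import Cfsg.Agent.H768.Der.Sz
import Cfsg.Agent.S2126
import Cfsg.Agent.S2247
import Cfsg.Agent.S0330

/-!
# Three classes of derangements: the Suzuki groups, general part (S3502, helper221)
-/

set_option autoImplicit false

namespace Cfsg.Agent.H221.Der

open MulAction Subgroup Cfsg Cfsg.Agent.H947.El Cfsg.Agent.H439.Der Cfsg.Agent.H768.Der
open Cfsg.Agent.H101.SzAbs Cfsg.Agent.H101.SzGeo Cfsg.Agent.H101.SzAbs.Geo Cfsg.Agent.H101.SzSub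

variable {F : Type*} [Field F] [Fintype F] {m : ℕ}

theorem card_out_sz (hm : 1 ≤ m) (hF : Fintype.card F = 2 ^ (2 * m + 1)) :
    Nat.card (Cfsg.Out (Cfsg.Sz F m)) = 2 * m + 1 := by
  obtain ⟨f⟩ := Cfsg.Agent.OddCyclic.ClaimC.SzIso.iso hm hF
  rw [card_out_congr f, Cfsg.Agent.S2126.result hm hF]

/-- the normaliser of the two-point stabiliser -/
theorem card_normalizer_T_le (hm : 1 ≤ m) (hF : Fintype.card F = 2 ^ (2 * m + 1)) :
    Nat.card (normalizer (T hF : Set (Cfsg.Sz F m))) ≤ 2 * (2 ^ (2 * m + 1) - 1) := by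
  classical
  have hfin : Finite (Cfsg.Sz F m) := inferInstance
  obtain ⟨q, r, hq, hr, h8, h2q, h2r, hrq, hrr⟩ := num_sz m hm
  have hTc := (T_cyclic hm hF).2
  have hTn : T hF ≠ ⊥ := by
    intro hb
    rw [hb, Subgroup.card_bot, ← hq] at hTc
    omega
  obtain ⟨t, ht⟩ := Subgroup.ne_bot_iff_exists_ne_one.1 hTn
  have ht1 : (t : Cfsg.Sz F m) ≠ 1 := fun h => ht (Subtype.ext h)
  -- an element of the normaliser permutes the two points
  have hperm : ∀ x ∈ normalizer (T hF : Set (Cfsg.Sz F m)), ∀ b : Cfsg.suzukiOvoid F m, (t : Cfsg.Sz F m) • b = b →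
      x • b = inf F m ∨ x • b = zer F m := by
    intro x hx b hb
    have h1 := (Subgroup.mem_normalizer_iff.1 hx t).1 t.2
    have hne : x * t * x⁻¹ ≠ 1 := by
      intro h
      apply ht1
      calc (t : Cfsg.Sz F m) = x⁻¹ * (x * t * x⁻¹) * x := by group
        _ = 1 := by rw [h]; group
    have hfix : (x * (t : Cfsg.Sz F m) * x⁻¹) • (x • b) = x • b := by
      rw [mul_smul, mul_smul, inv_smul_smul, hb]
    by_contra hcon
    rw [not_or] at hcon
    exact hne ((geo hm hF).three _ (inf F m) (zer F m) (x • b) inf_ne_zer (fun h => hcon.2 h.symm)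
      (fun h => hcon.1 h.symm) h1.1 h1.2 hfix)
  have hpz : ∀ x ∈ normalizer (T hF : Set (Cfsg.Sz F m)), x • inf F m = inf F m → x ∈ T hF := by
    intro x hx h
    refine ⟨h, ?_⟩
    rcases hperm x hx (zer F m) t.2.2 with h1 | h1
    · exact absurd (smul_left_cancel x (h.trans h1.symm)) inf_ne_zer
    · exact h1
  have hpi : ∀ x ∈ normalizer (T hF : Set (Cfsg.Sz F m)), x • inf F m ≠ inf F m →
      x • inf F m = zer F m := fun x hx h => (hperm x hx (inf F m) t.2.1).resolve_left h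
  by_cases hex : ∃ g0 ∈ normalizer (T hF : Set (Cfsg.Sz F m)), g0 ∉ T hF
  · obtain ⟨g0, hg0, hg0T⟩ := hex
    have h0 : g0 • inf F m = zer F m := hpi g0 hg0 fun h => hg0T (hpz g0 hg0 h)
    have hsub : (normalizer (T hF : Set (Cfsg.Sz F m)) : Set (Cfsg.Sz F m)) ⊆
        (T hF : Set (Cfsg.Sz F m)) ∪ (fun t => g0 * t) '' (T hF : Set (Cfsg.Sz F m)) := by
      intro g hg
      by_cases hgT : g ∈ T hF
      · exact Or.inl hgT
      · right
        refine ⟨g0⁻¹ * g, hpz _ (mul_mem (inv_mem hg0) hg) ?_, by group⟩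
        rw [mul_smul, hpi g hg fun h => hgT (hpz g hg h), ← h0, inv_smul_smul]
    have h1 := (Set.ncard_le_ncard hsub (Set.toFinite _)).trans (Set.ncard_union_le _ _)
    have h2 := Set.ncard_image_le (s := (T hF : Set (Cfsg.Sz F m))) (f := fun t => g0 * t) (Set.toFinite _)
    rw [← Nat.card_coe_set_eq, ← Nat.card_coe_set_eq (T hF : Set (Cfsg.Sz F m))] at h1
    rw [← Nat.card_coe_set_eq (T hF : Set (Cfsg.Sz F m))] at h2
    have h3 : Nat.card ((T hF : Set (Cfsg.Sz F m))) = 2 ^ (2 * m + 1) - 1 := hTc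
    have h4 : Nat.card ((normalizer (T hF : Set (Cfsg.Sz F m)) : Set (Cfsg.Sz F m))) =
      Nat.card (normalizer (T hF : Set (Cfsg.Sz F m))) := rfl
    omega
  · push Not at hex
    have := Subgroup.card_le_of_le (show normalizer (T hF : Set (Cfsg.Sz F m)) ≤ T hF from hex)
    omega

/-- the order of the normaliser of a torus of order `q ± r + 1`, and the torus is a conjugate of the one of `S0333` -/
theorem card_normalizer_torus (hm : 1 ≤ m) (hF : Fintype.card F = 2 ^ (2 * m + 1)) (U : Subgroup (Cfsg.Sz F m))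
    (hc : IsCyclic U) {k : ℕ} (hk : k = 2 ^ (2 * m + 1) + 2 ^ (m + 1) + 1 ∨ k = 2 ^ (2 * m + 1) - 2 ^ (m + 1) + 1)
    (hU : Nat.card U = k) : Nat.card (normalizer (U : Set (Cfsg.Sz F m))) = 4 * k := by
  obtain ⟨q, r, hq, hr, h8, h2q, h2r, hrq, hrr⟩ := num_sz m hm
  have hfin : Finite (Cfsg.Sz F m) := inferInstance
  have hcomm : ∀ x ∈ U, ∀ y ∈ U, x * y = y * x := by
    intro x hx y hy
    have := hc.commGroup.mul_comm (⟨x, hx⟩ : U) ⟨y, hy⟩
    exact congrArg Subtype.val this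
  have hcardG := Cfsg.Agent.S0324.result hm hF
  have h0333 := Cfsg.Agent.S0333.result hm hF k (by rcases hk with rfl | rfl <;> simp)
  rw [← hq] at hcardG hk
  rw [← hr] at hk
  have e2 : q ^ 2 + 1 = (q + r + 1) * (q - r + 1) := by
    zify [show r ≤ q by omega]
    have : (r : ℤ) * r = 2 * q := by exact_mod_cast hrr
    linear_combination this
  obtain ⟨V, hVc, hVk, hVcent, hVn⟩ := h0333
  -- coprimality
  have c1 : ∀ p : ℕ, p.Prime → p ∣ k → ¬ p ∣ q := by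
    intro p hp h1 h2
    have h3 : p ∣ q ^ 2 + 1 := by
      rw [e2]
      rcases hk with rfl | rfl
      · exact h1.mul_right _
      · exact h1.mul_left _
    exact hp.one_lt.ne' (Nat.dvd_one.1 ((Nat.dvd_add_right (h2.pow (by norm_num))).1 h3))
  have hp2 : ∀ p : ℕ, p.Prime → p ∣ k → p ≠ 2 := by
    rintro p hp h1 rfl
    exact c1 2 hp h1 h2q
  have c2 : ∀ p : ℕ, p.Prime → p ∣ q + r + 1 → p ∣ q - r + 1 → False := by
    intro p hp h1 h2
    have h3 : q + r + 1 = (q - r + 1) + 2 * r := by omega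
    have h1' := h1
    rw [h3] at h1
    have h4 : p ∣ 2 * r := (Nat.dvd_add_right h2).1 h1
    rw [hr, ← pow_succ'] at h4
    have h5 := (Nat.prime_dvd_prime_iff_eq hp Nat.prime_two).1 (hp.dvd_of_dvd_pow h4)
    rw [h5] at h1'
    omega
  have c3 : ∀ p : ℕ, p.Prime → p ∣ k → ¬ p ∣ q - 1 := by
    intro p hp h1 h2
    have h3 : p ∣ q ^ 2 + 1 := by
      rw [e2]
      rcases hk with rfl | rfl
      · exact h1.mul_right _
      · exact h1.mul_left _
    have h4 : q ^ 2 + 1 = (q - 1) * (q + 1) + 2 := by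
      obtain ⟨t, rfl⟩ : ∃ t, q = t + 1 := ⟨q - 1, by omega⟩
      rw [Nat.add_sub_cancel]; ring
    rw [h4] at h3
    exact hp2 p hp h1 ((Nat.prime_dvd_prime_iff_eq hp Nat.prime_two).1 ((Nat.dvd_add_right (h2.mul_right _)).1 h3))
  obtain ⟨j, hkj, hcj⟩ : ∃ j, k * j = q ^ 2 + 1 ∧ ∀ p : ℕ, p.Prime → p ∣ k → ¬ p ∣ j := by
    rcases hk with rfl | rfl
    · exact ⟨_, e2.symm, fun p hp h1 h2 => c2 p hp h1 h2⟩
    · exact ⟨_, by rw [mul_comm, ← e2], fun p hp h1 h2 => c2 p hp h2 h1⟩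
  have hk0 : 0 < k := by rcases hk with rfl | rfl <;> omega
  have hidx : V.index = q ^ 2 * j * (q - 1) := by
    have h1 := V.card_mul_index
    rw [hcardG, hVk] at h1
    have h2 : k * V.index = k * (q ^ 2 * j * (q - 1)) := by
      rw [h1, ← hkj]
      ring
    exact Nat.eq_of_mul_eq_mul_left hk0 h2
  have hcop : Nat.Coprime (Nat.card V) V.index := by
    rw [hVk, hidx]
    refine cop_of_prime fun p hp h1 h2 => ?_
    rcases hp.dvd_mul.1 h2 with h3 | h3
    · rcases hp.dvd_mul.1 h3 with h4 | h4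
      · exact c1 p hp h1 (hp.dvd_of_dvd_pow h4)
      · exact hcj p hp h1 h4
    · exact c3 p hp h1 h3
  obtain ⟨g, hg⟩ := exists_conj_of_cc U V (by rw [hU, hVk]) (by rw [hVk]; rcases hk with rfl | rfl <;> omega) hcop hcomm
    hVcent
  rw [← hVn, ← hg, ← Subgroup.map_normalizer_eq_of_bijective _ (f := (MulAut.conj g).toMonoidHom)
    (MulAut.conj g).bijective, Subgroup.card_map_of_injective (MulAut.conj g).injective]

/-- the tori -/
theorem sz_torus (hm : 1 ≤ m) (hF : Fintype.card F = 2 ^ (2 * m + 1)) {k : ℕ} (hk : k = 2 ^ (2 * m + 1) - 1 ∨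
    k = 2 ^ (2 * m + 1) + 2 ^ (m + 1) + 1 ∨ k = 2 ^ (2 * m + 1) - 2 ^ (m + 1) + 1) :
    ∃ y : Cfsg.Sz F m, orderOf y = k ∧ ∀ z ∈ zpowers y, z ≠ 1 →
      Nat.card (normalizer (zpowers z : Set (Cfsg.Sz F m))) ≤ 4 * Nat.card (centralizer ({z} : Set (Cfsg.Sz F m))) := by
  have hfin : Finite (Cfsg.Sz F m) := inferInstance
  obtain ⟨U, hUc, hUk, hUcent, hUn⟩ : ∃ U : Subgroup (Cfsg.Sz F m), IsCyclic U ∧ Nat.card U = k ∧
      (∀ u ∈ U, u ≠ 1 → Subgroup.centralizer {u} = U) ∧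
      Nat.card (Subgroup.normalizer (U : Set (Cfsg.Sz F m))) ≤ 4 * k := by
    rcases hk with hk | hk
    · refine ⟨T hF, (T_cyclic hm hF).1, by rw [(T_cyclic hm hF).2, hk], fun u hu hu1 => T_cent hm hF hu hu1, ?_⟩
      have := card_normalizer_T_le hm hF
      omega
    · obtain ⟨U, h1, h2, h3, h4⟩ := Cfsg.Agent.S0333.result hm hF k (by rcases hk with rfl | rfl <;> simp)
      exact ⟨U, h1, h2, h3, h4.le⟩
  obtain ⟨g, hg⟩ := hUc.exists_generator
  have hzp : zpowers (g : Cfsg.Sz F m) = U := by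
    refine le_antisymm (zpowers_le.2 g.2) fun x hx => ?_
    obtain ⟨j, hj⟩ := mem_zpowers_iff.1 (hg ⟨x, hx⟩)
    exact ⟨j, congrArg Subtype.val hj⟩
  refine ⟨g, by rw [← Nat.card_zpowers, hzp, hUk], fun z hz hz1 => ?_⟩
  rw [hzp] at hz
  rw [hUcent z hz hz1, hUk]
  refine (Subgroup.card_le_of_le fun x hx => ?_).trans hUn
  -- `x` normalises `C(z) = U`
  have h1 : x * z * x⁻¹ ∈ zpowers z := (Subgroup.mem_normalizer_iff.1 hx z).1 (mem_zpowers z)
  have h2 : x * z * x⁻¹ ∈ U := (zpowers_le.2 hz) h1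
  have h3 : x * z * x⁻¹ ≠ 1 := by
    intro h
    apply hz1
    calc z = x⁻¹ * (x * z * x⁻¹) * x := by group
      _ = 1 := by rw [h]; group
  have h4 := hUcent _ h2 h3
  have h5 := hUcent _ hz hz1
  rw [Subgroup.mem_normalizer_iff]
  intro u
  constructor
  · intro hu
    rw [← h4, Subgroup.mem_centralizer_singleton_iff]
    rw [← h5, Subgroup.mem_centralizer_singleton_iff] at hu
    calc x * u * x⁻¹ * (x * z * x⁻¹) = x * (u * z) * x⁻¹ := by group
      _ = x * (z * u) * x⁻¹ := by rw [hu]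
      _ = _ := by group
  · intro hu
    rw [← h5, Subgroup.mem_centralizer_singleton_iff]
    rw [← h4, Subgroup.mem_centralizer_singleton_iff] at hu
    have h6 : x * (u * z) * x⁻¹ = x * (z * u) * x⁻¹ := by
      calc x * (u * z) * x⁻¹ = x * u * x⁻¹ * (x * z * x⁻¹) := by group
        _ = x * z * x⁻¹ * (x * u * x⁻¹) := hu
        _ = _ := by group
    exact mul_left_cancel (mul_right_cancel h6)

theorem num_le16 (m : ℕ) (hm : 2 ≤ m) : 16 * (2 * m + 1) < 3 * 2 ^ (2 * m + 1) := by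
  induction m, hm using Nat.le_induction with
  | base => norm_num
  | succ k hk ih =>
    have : 2 ^ (2 * (k + 1) + 1) = 4 * 2 ^ (2 * k + 1) := by ring
    rw [this]
    omega

theorem sz_not_SC (hm : 2 ≤ m) (hF : Fintype.card F = 2 ^ (2 * m + 1)) {k v : ℕ} (hk : k = 2 ^ (2 * m + 1) - 1 ∨
    k = 2 ^ (2 * m + 1) + 2 ^ (m + 1) + 1 ∨ k = 2 ^ (2 * m + 1) - 2 ^ (m + 1) + 1) (hv : v.Prime) (hvk : v ∣ k) :
    ¬ SC (Cfsg.Sz F m) v := by
  classical
  have hfin : Finite (Cfsg.Sz F m) := inferInstance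
  have := Fintype.ofFinite (Cfsg.Sz F m)
  obtain ⟨y, hy, hN⟩ := sz_torus (by omega) hF hk
  by_cases hvk' : v = k
  · refine not_SC_of_card (P := Finset.univ.filter fun z => z ∈ zpowers y ∧ v ∣ orderOf z) (n := 4) (o := 2 * m + 1)
      (fun z hz => (Finset.mem_filter.1 hz).2.2)
      (conj_card_le (y := y) (fun z hz => (Finset.mem_filter.1 hz).2.1) (fun z hz => ?_)) (card_out_sz (by omega) hF).le ?_
    · obtain ⟨-, h1, h2⟩ := Finset.mem_filter.1 hz
      refine hN z h1 ?_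
      rintro rfl
      rw [orderOf_one] at h2
      exact hv.one_lt.ne' (Nat.dvd_one.1 h2)
    · have h1 := card_filter_ge (y := y) hv (by rw [hy]; exact hvk)
      rw [hy, ← hvk', Nat.div_self hv.pos] at h1
      have h2 := num_le16 m hm
      have h3 : 4 * 2 ^ (m + 1) ≤ 2 ^ (2 * m + 1) := by
        calc 4 * 2 ^ (m + 1) = 2 ^ (m + 3) := by ring
          _ ≤ _ := Nat.pow_le_pow_right (by norm_num) (by omega)
      rcases hk with hk | hk | hk <;> omega
  · exact not_SC_of_orderOf hv (y := y) (by rw [hy]; exact hvk) (by rw [hy]; exact fun h => hvk' h.symm)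

/-- every proper subgroup misses two primes, one of them dividing the order of a torus -/
theorem sz_two_primes (hm : 1 ≤ m) (hF : Fintype.card F = 2 ^ (2 * m + 1)) (M : Subgroup (Cfsg.Sz F m)) (hM : M ≠ ⊤) :
    ∃ v w : ℕ, v.Prime ∧ w.Prime ∧ v ≠ w ∧ v ∣ Nat.card (Cfsg.Sz F m) ∧ w ∣ Nat.card (Cfsg.Sz F m) ∧
      ¬ v ∣ Nat.card M ∧ ¬ w ∣ Nat.card M ∧ ∃ k, (k = 2 ^ (2 * m + 1) - 1 ∨
        k = 2 ^ (2 * m + 1) + 2 ^ (m + 1) + 1 ∨ k = 2 ^ (2 * m + 1) - 2 ^ (m + 1) + 1) ∧ v ∣ k := by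
  obtain ⟨q, r, hq, hr, h8, h2q, h2r, hrq, hrr⟩ := num_sz m hm
  have hfin : Finite (Cfsg.Sz F m) := inferInstance
  have hcardG := Cfsg.Agent.S0324.result hm hF
  rw [← hq] at hcardG
  have e2 : q ^ 2 + 1 = (q + r + 1) * (q - r + 1) := by
    zify [show r ≤ q by omega]
    have : (r : ℤ) * r = 2 * q := by exact_mod_cast hrr
    linear_combination this
  obtain ⟨s, hs, hsd⟩ := Nat.exists_prime_and_dvd (n := q - 1) (by omega)
  obtain ⟨a, ha, had⟩ := Nat.exists_prime_and_dvd (n := q + r + 1) (by omega)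
  obtain ⟨b, hb, hbd⟩ := Nat.exists_prime_and_dvd (n := q - r + 1) (by omega)
  have hs2 : s ≠ 2 := by
    rintro rfl
    omega
  have ha2 : a ≠ 2 := by
    rintro rfl
    omega
  have hb2 : b ≠ 2 := by
    rintro rfl
    omega
  -- coprimality
  have c1 : ∀ p : ℕ, p.Prime → p ≠ 2 → p ∣ q - 1 → ¬ p ∣ q ^ 2 + 1 := by
    intro p hp hp2 h1 h2
    have h4 : q ^ 2 + 1 = (q - 1) * (q + 1) + 2 := by
      obtain ⟨t, rfl⟩ : ∃ t, q = t + 1 := ⟨q - 1, by omega⟩
      rw [Nat.add_sub_cancel]; ring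
    rw [h4] at h2
    exact hp2 ((Nat.prime_dvd_prime_iff_eq hp Nat.prime_two).1 ((Nat.dvd_add_right (h1.mul_right _)).1 h2))
  have c2 : ∀ p : ℕ, p.Prime → p ≠ 2 → p ∣ q + r + 1 → ¬ p ∣ q - r + 1 := by
    intro p hp hp2 h1 h2
    have h3 : q + r + 1 = (q - r + 1) + 2 * r := by omega
    rw [h3] at h1
    have h4 : p ∣ 2 * r := (Nat.dvd_add_right h2).1 h1
    rw [hr, ← pow_succ'] at h4
    exact hp2 ((Nat.prime_dvd_prime_iff_eq hp Nat.prime_two).1 (hp.dvd_of_dvd_pow h4))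
  have haG : a ∣ q ^ 2 + 1 := by rw [e2]; exact had.mul_right _
  have hbG : b ∣ q ^ 2 + 1 := by rw [e2]; exact hbd.mul_left _
  have hsa : s ≠ a := by rintro rfl; exact c1 s hs hs2 hsd haG
  have hsb : s ≠ b := by rintro rfl; exact c1 s hs hs2 hsd hbG
  have hab : a ≠ b := by rintro rfl; exact c2 a ha ha2 had hbd
  have dG : ∀ p : ℕ, p ∣ (q - 1) * (q ^ 2 + 1) → p ∣ Nat.card (Cfsg.Sz F m) := by
    intro p hp
    rw [hcardG]
    refine hp.trans ⟨q ^ 2, by ring⟩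
  have ds : s ∣ Nat.card (Cfsg.Sz F m) := dG s (hsd.mul_right _)
  have da : a ∣ Nat.card (Cfsg.Sz F m) := dG a (haG.mul_left _)
  have db : b ∣ Nat.card (Cfsg.Sz F m) := dG b (hbG.mul_left _)
  have ks : ∃ k, (k = 2 ^ (2 * m + 1) - 1 ∨ k = 2 ^ (2 * m + 1) + 2 ^ (m + 1) + 1 ∨
      k = 2 ^ (2 * m + 1) - 2 ^ (m + 1) + 1) ∧ s ∣ k := ⟨q - 1, Or.inl (by rw [hq]), hsd⟩
  have ka : ∃ k, (k = 2 ^ (2 * m + 1) - 1 ∨ k = 2 ^ (2 * m + 1) + 2 ^ (m + 1) + 1 ∨
      k = 2 ^ (2 * m + 1) - 2 ^ (m + 1) + 1) ∧ a ∣ k := ⟨q + r + 1, Or.inr (Or.inl (by rw [hq, hr])), had⟩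
  rcases Cfsg.Agent.S2251.result hm hF M hM with ⟨P0, hP0⟩ | ⟨U, hUc, hUk, hU⟩ | ⟨K, _, _, k, hk1, hkm, hK, hdiv, S, ⟨e⟩, hS⟩
  · refine ⟨a, b, ha, hb, hab, da, db, (fun h => ?_), (fun h => ?_), ka⟩
    · have h1 := borel_prime hm hF P0 hP0 ha ha2 h
      rw [← hq] at h1
      exact c1 a ha ha2 h1 haG
    · have h1 := borel_prime hm hF P0 hP0 hb hb2 h
      rw [← hq] at h1
      exact c1 b hb hb2 h1 hbG
  · have key : ∀ p : ℕ, p.Prime → p ≠ 2 → p ∣ Nat.card M → p ∣ Nat.card U := fun p hp hp2 h =>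
      torus_prime hm hF U hUc hUk hU hp hp2 h
    rw [← hq, ← hr] at hUk
    simp only [Set.mem_insert_iff, Set.mem_singleton_iff] at hUk
    rcases hUk with hUk | hUk | hUk
    · rw [hUk] at key
      exact ⟨a, b, ha, hb, hab, da, db, (fun h => c1 a ha ha2 (key a ha ha2 h) haG),
        (fun h => c1 b hb hb2 (key b hb hb2 h) hbG), ka⟩
    · rw [hUk] at key
      refine ⟨s, b, hs, hb, hsb, ds, db, (fun h => c1 s hs hs2 hsd ?_),
        (fun h => c2 b hb hb2 (key b hb hb2 h) hbd), ks⟩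
      rw [e2]
      exact (key s hs hs2 h).mul_right _
    · rw [hUk] at key
      refine ⟨s, a, hs, ha, hsa, ds, da, (fun h => c1 s hs hs2 hsd ?_),
        (fun h => c2 a ha ha2 had (key a ha ha2 h)), ks⟩
      rw [e2]
      exact (key s hs hs2 h).mul_left _
  · -- a smaller Suzuki group
    obtain ⟨ρ, hρ, hρ1, hρ2, hρ3⟩ := Cfsg.Agent.Lib.Zsigmondy.exists_primitive (a := 2) (n := 4 * (2 * m + 1)) le_rfl
      (by omega) (by omega) (by omega)
    obtain ⟨w, hw, hw1, hw2, hw3⟩ := Cfsg.Agent.Lib.Zsigmondy.exists_primitive (a := 2) (n := 2 * m + 1) le_rfl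
      (by omega) (by omega) (by omega)
    have hS1 : ∀ p : ℕ, p.Prime → ¬ p ∣ 2 → p ∣ Nat.card M → p ∣ 2 ^ (4 * (2 * k + 1)) - 1 := by
      intro p hp hp2 h
      have h1 : p ∣ Nat.card S := h.trans (Subgroup.card_dvd_of_le hS)
      rw [Nat.card_congr e.toEquiv, Cfsg.Agent.S0324.result hk1 hK] at h1
      obtain ⟨s, hs⟩ : ∃ s, s = 2 ^ (2 * k + 1) := ⟨_, rfl⟩
      rw [← hs] at h1
      have h2 : p ∣ s ^ 4 - 1 := by
        have e3 : s ^ 4 - 1 = (s ^ 2 + 1) * ((s - 1) * (s + 1)) := by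
          have h3 : (s ^ 2) ^ 2 - 1 ^ 2 = (s ^ 2 + 1) * (s ^ 2 - 1) := Nat.sq_sub_sq _ _
          have h4 : s ^ 2 - 1 ^ 2 = (s + 1) * (s - 1) := Nat.sq_sub_sq _ _
          rw [one_pow] at h3 h4
          rw [h4, mul_comm (s + 1)] at h3
          rw [← h3, ← pow_mul]
        rw [e3]
        rcases hp.dvd_mul.1 h1 with h3 | h3
        · rcases hp.dvd_mul.1 h3 with h4 | h4
          · have h5 := hp.dvd_of_dvd_pow h4
            rw [hs] at h5
            exact absurd (hp.dvd_of_dvd_pow h5) hp2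
          · exact h4.mul_right _
        · exact (h3.mul_right _).mul_left _
      rwa [hs, ← pow_mul, mul_comm] at h2
    have hρq : ρ ∣ q ^ 2 + 1 := by
      have h1 : ρ ∣ q ^ 4 - 1 := by
        rw [hq, ← pow_mul]
        exact (hρ1 _).2 (by rw [mul_comm])
      have h2 : q ^ 4 - 1 = (q ^ 2 + 1) * (q ^ 2 - 1) := by
        have : (q ^ 2) ^ 2 - 1 ^ 2 = (q ^ 2 + 1) * (q ^ 2 - 1) := Nat.sq_sub_sq _ _
        rw [← this, ← pow_mul, one_pow]
      rw [h2] at h1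
      refine (hρ.dvd_mul.1 h1).resolve_right fun h => ?_
      rw [hq, ← pow_mul] at h
      have := (hρ1 _).1 h
      have := Nat.le_of_dvd (by omega) this
      omega
    have hwq : w ∣ q - 1 := by rw [hq]; exact (hw1 _).2 dvd_rfl
    have hw2' : w ≠ 2 := by rintro rfl; exact hw3 dvd_rfl
    refine ⟨w, ρ, hw, hρ, by rintro rfl; exact c1 w hw hw2' hwq hρq, dG w (hwq.mul_right _), dG ρ (hρq.mul_left _),
      (fun h => ?_), (fun h => ?_), q - 1, Or.inl (by rw [hq]), hwq⟩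
    · have h1 := (hw1 _).1 (hS1 w hw hw3 h)
      have h2 : Nat.Coprime (2 * m + 1) 4 := by
        rw [show (4 : ℕ) = 2 ^ 2 by norm_num]
        apply Nat.Coprime.pow_right
        rw [Nat.coprime_comm, Nat.prime_two.coprime_iff_not_dvd]
        omega
      have h3 := h2.dvd_of_dvd_mul_left h1
      have := Nat.le_of_dvd (by omega) h3
      omega
    · have h1 := (hρ1 _).1 (hS1 ρ hρ hρ3 h)
      have := Nat.le_of_dvd (by omega) h1
      omega

/-- **the Suzuki groups over fields of order greater than `8`** -/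
theorem three_sz (hm : 2 ≤ m) (hF : Fintype.card F = 2 ^ (2 * m + 1)) (M : Subgroup (Cfsg.Sz F m)) (hM : M ≠ ⊤) :
    Three (Cfsg.Sz F m) M := by
  have hfin : Finite (Cfsg.Sz F m) := inferInstance
  obtain ⟨v, w, hv, hw, hvw, h1, h2, h3, h4, k, hk, hvk⟩ := sz_two_primes (by omega) hF M hM
  exact Three.of_two_primes hv hw hvw h2 h3 h4 (sz_not_SC hm hF hk hv hvk)

end Cfsg.Agent.H221.Der
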