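import Cfsg.Agent.H221.Der.Sz

/-!
# Three classes of derangements: the Suzuki groups, `Sz(8)` and the row (S3502, helper221)

`rowS_sz`.
-/

set_option autoImplicit false

namespace Cfsg.Agent.H221.Der

open MulAction Subgroup Cfsg Cfsg.Agent.H947.El Cfsg.Agent.H439.Der Cfsg.Agent.H768.Der
open Cfsg.Agent.H101.SzAbs Cfsg.Agent.H101.SzGeo Cfsg.Agent.H101.SzAbs.Geo Cfsg.Agent.H101.SzSub

variable {F : Type*} [Field F] [Fintype F]

section eight

variable (hF : Fintype.card F = 2 ^ (2 * 1 + 1))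

include hF

theorem card_sz8 : Nat.card (Cfsg.Sz F 1) = 29120 := by
  rw [Cfsg.Agent.S0324.result le_rfl hF]
  norm_num

theorem exists_four : ∃ t : Cfsg.Sz F 1, orderOf t = 4 := by
  have hfin : Finite (Cfsg.Sz F 1) := inferInstance
  obtain ⟨P⟩ : Nonempty (Sylow 2 (Cfsg.Sz F 1)) := inferInstance
  obtain ⟨-, hexp, -, -⟩ := Cfsg.Agent.S0330.result le_rfl hF P
  have h1 : ¬ Monoid.exponent P ∣ 2 := by rw [hexp]; norm_num
  rw [Monoid.exponent_dvd_iff_forall_pow_eq_one] at h1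
  push Not at h1
  obtain ⟨t, ht⟩ := h1
  refine ⟨t, ?_⟩
  have h2 := Monoid.order_dvd_exponent t
  rw [hexp] at h2
  rw [Subgroup.orderOf_coe]
  have h3 : ¬ orderOf t ∣ 2 := fun h => ht (orderOf_dvd_iff_pow_eq_one.1 h)
  have h4 := Nat.le_of_dvd (by norm_num) h2
  interval_cases h5 : orderOf t <;> first | rfl | omega

theorem card_borel (P0 : Sylow 2 (Cfsg.Sz F 1)) :
    Nat.card (normalizer ((P0 : Subgroup (Cfsg.Sz F 1)) : Set (Cfsg.Sz F 1))) ∣ 448 := by
  have hfin : Finite (Cfsg.Sz F 1) := inferInstance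
  have h1 := Subgroup.card_subgroup_dvd_card (normalizer ((P0 : Subgroup (Cfsg.Sz F 1)) : Set (Cfsg.Sz F 1)))
  rw [card_sz8 hF, show 29120 = 448 * 65 by norm_num] at h1
  refine Nat.Coprime.dvd_of_dvd_mul_right ?_ h1
  refine cop_of_prime fun p hp h2 h3 => ?_
  have h4 : p = 5 ∨ p = 13 := by
    rw [show 65 = 5 * 13 by norm_num] at h3
    rcases hp.dvd_mul.1 h3 with h4 | h4
    · exact Or.inl ((Nat.prime_dvd_prime_iff_eq hp (by norm_num)).1 h4)
    · exact Or.inr ((Nat.prime_dvd_prime_iff_eq hp (by norm_num)).1 h4)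
  have h5 := borel_prime le_rfl hF P0 le_rfl hp (by omega) h2
  rcases h4 with rfl | rfl <;> norm_num at h5

/-- a subgroup of order `7` is conjugate to `T` -/
theorem conj_T {U : Subgroup (Cfsg.Sz F 1)} (hU : Nat.card U = 7) :
    ∃ g : Cfsg.Sz F 1, U.map (MulAut.conj g).toMonoidHom = T hF := by
  have hfin : Finite (Cfsg.Sz F 1) := inferInstance
  have hT : Nat.card (T hF) = 7 := (T_cyclic le_rfl hF).2
  have hUc : IsCyclic U := by
    have := Fact.mk (show Nat.Prime 7 by norm_num)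
    exact isCyclic_of_prime_card hU
  refine exists_conj_of_cc U (T hF) (by rw [hU, hT]) (by rw [hT]; norm_num) ?_ ?_
    (fun u hu hu1 => T_cent le_rfl hF hu hu1)
  · have h1 := (T hF).card_mul_index
    rw [hT, card_sz8 hF] at h1
    have h2 : (T hF).index = 4160 := by omega
    rw [hT, h2]
    norm_num
  · intro x hx y hy
    have := hUc.commGroup.mul_comm (⟨x, hx⟩ : U) ⟨y, hy⟩
    exact congrArg Subtype.val this

theorem card_normalizer_seven {U : Subgroup (Cfsg.Sz F 1)} (hU : Nat.card U = 7) :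
    Nat.card (normalizer (U : Set (Cfsg.Sz F 1))) ≤ 14 := by
  obtain ⟨g, hg⟩ := conj_T hF hU
  have h1 := card_normalizer_T_le le_rfl hF
  rw [← hg, ← Subgroup.map_normalizer_eq_of_bijective _ (f := (MulAut.conj g).toMonoidHom)
    (MulAut.conj g).bijective, Subgroup.card_map_of_injective (MulAut.conj g).injective] at h1
  exact h1.trans (by norm_num)

theorem comm_seven {x z : Cfsg.Sz F 1} (hx : orderOf x = 7) (h : x * z = z * x) : orderOf z ∣ 7 := by
  have hfin : Finite (Cfsg.Sz F 1) := inferInstance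
  have hT : Nat.card (T hF) = 7 := (T_cyclic le_rfl hF).2
  obtain ⟨g, hg⟩ := conj_T hF (U := zpowers x) (by rw [Nat.card_zpowers, hx])
  have h1 : g * x * g⁻¹ ∈ T hF := by
    rw [← hg]
    exact ⟨x, mem_zpowers x, rfl⟩
  have h2 : g * x * g⁻¹ ≠ 1 := by
    intro h3
    have : x = 1 := by
      calc x = g⁻¹ * (g * x * g⁻¹) * g := by group
        _ = 1 := by rw [h3]; group
    rw [this, orderOf_one] at hx
    omega
  have h3 : g * z * g⁻¹ ∈ T hF := by
    rw [← T_cent le_rfl hF h1 h2, Subgroup.mem_centralizer_singleton_iff]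
    calc g * z * g⁻¹ * (g * x * g⁻¹) = g * (z * x) * g⁻¹ := by group
      _ = g * (x * z) * g⁻¹ := by rw [h]
      _ = _ := by group
  have h4 := Subgroup.orderOf_dvd_natCard _ h3
  rwa [hT, orderOf_conj] at h4

/-- subgroups of a Borel subgroup with elements of orders `7` and `4` -/
theorem le_of_seven_four (P0 : Sylow 2 (Cfsg.Sz F 1)) {R : Subgroup (Cfsg.Sz F 1)}
    (hR : R ≤ normalizer ((P0 : Subgroup (Cfsg.Sz F 1)) : Set (Cfsg.Sz F 1))) {x t : Cfsg.Sz F 1} (hx : x ∈ R)
    (hxo : orderOf x = 7) (ht : t ∈ R) (hto : orderOf t = 4) : (P0 : Subgroup (Cfsg.Sz F 1)) ≤ R := by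
  classical
  have hfin : Finite (Cfsg.Sz F 1) := inferInstance
  have := Fintype.ofFinite (Cfsg.Sz F 1)
  have hP0c : Nat.card P0 = 64 := by
    rw [(Cfsg.Agent.S0330.result le_rfl hF P0).1]
    norm_num
  -- `t ∈ P0`
  have htP : t ∈ (P0 : Subgroup (Cfsg.Sz F 1)) := by
    have h2 : IsPGroup 2 (zpowers t) := IsPGroup.of_card (n := 2) (by rw [Nat.card_zpowers, hto]; norm_num)
    have h3 : IsPGroup 2 ((P0 : Subgroup (Cfsg.Sz F 1)) ⊔ zpowers t : Subgroup (Cfsg.Sz F 1)) :=
      IsPGroup.to_sup_of_normal_left' P0.isPGroup' h2 (by rw [zpowers_le]; exact hR ht)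
    have h4 := P0.is_maximal' h3 le_sup_left
    rw [← h4]
    exact (le_sup_right : zpowers t ≤ _) (mem_zpowers t)
  obtain ⟨Q0, hQ0⟩ : ∃ Q0 : Subgroup (Cfsg.Sz F 1), Q0 = R ⊓ P0 := ⟨_, rfl⟩
  have hQc : Nat.card Q0 ∣ 64 := by
    rw [← hP0c, hQ0]
    exact Subgroup.card_dvd_of_le inf_le_right
  have hZ : ∀ g ∈ zpowers x, ∀ q ∈ Q0, g * q * g⁻¹ ∈ Q0 := by
    intro g hg q hq
    have hgR : g ∈ R := (zpowers_le.2 hx) hg
    rw [hQ0] at hq ⊢
    exact ⟨R.mul_mem (R.mul_mem hgR hq.1) (R.inv_mem hgR), (Subgroup.mem_normalizer_iff.1 (hR hgR) q).1 hq.2⟩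
  let act : MulAction (zpowers x) Q0 :=
    { smul := fun g q => ⟨g * q * (g : Cfsg.Sz F 1)⁻¹, hZ g g.2 q q.2⟩
      one_smul := fun q => Subtype.ext (by
        show (1 : Cfsg.Sz F 1) * q * (1 : Cfsg.Sz F 1)⁻¹ = q
        group)
      mul_smul := fun g h q => Subtype.ext (by
        show ((g : Cfsg.Sz F 1) * h) * q * ((g : Cfsg.Sz F 1) * h)⁻¹ = g * (h * q * (h : Cfsg.Sz F 1)⁻¹) * (g : Cfsg.Sz F 1)⁻¹
        group) }
  have h7 := Fact.mk (show Nat.Prime 7 by norm_num)
  have hp : IsPGroup 7 (zpowers x) := IsPGroup.of_card (n := 1) (by rw [Nat.card_zpowers, hxo, pow_one])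
  have hmod := hp.card_modEq_card_fixedPoints Q0
  have hfix : Nat.card (fixedPoints (zpowers x) Q0) = 1 := by
    rw [Nat.card_eq_one_iff_unique]
    have h1 : ∀ q : Q0, q ∈ fixedPoints (zpowers x) Q0 → q = 1 := by
      intro q hq
      have h2 : x * q * x⁻¹ = q := congrArg Subtype.val (hq ⟨x, mem_zpowers x⟩)
      have h3 : x * (q : Cfsg.Sz F 1) = q * x := mul_inv_eq_iff_eq_mul.1 h2
      have h4 := comm_seven hF hxo h3
      have h5 : orderOf (q : Cfsg.Sz F 1) ∣ 64 := by
        rw [Subgroup.orderOf_coe]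
        exact (orderOf_dvd_natCard q).trans hQc
      have h6 : orderOf (q : Cfsg.Sz F 1) ∣ Nat.gcd 7 64 := Nat.dvd_gcd h4 h5
      rw [show Nat.gcd 7 64 = 1 by norm_num] at h6
      exact Subtype.ext (orderOf_eq_one_iff.1 (Nat.dvd_one.1 h6))
    refine ⟨⟨fun b c => Subtype.ext ((h1 _ b.2).trans (h1 _ c.2).symm)⟩, ⟨⟨1, fun g => Subtype.ext ?_⟩⟩⟩
    show (g : Cfsg.Sz F 1) * 1 * (g : Cfsg.Sz F 1)⁻¹ = 1
    group
  rw [hfix] at hmod
  -- nine elements
  have h9 : 9 ≤ Nat.card Q0 := by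
    let f : zpowers x → Cfsg.Sz F 1 := fun g => g * t * (g : Cfsg.Sz F 1)⁻¹
    have hf : Function.Injective f := by
      intro g h hgh
      by_contra hne
      have h1 : (g : Cfsg.Sz F 1) * t * (g : Cfsg.Sz F 1)⁻¹ = h * t * (h : Cfsg.Sz F 1)⁻¹ := hgh
      have h2 : ((h : Cfsg.Sz F 1)⁻¹ * g) * t = t * ((h : Cfsg.Sz F 1)⁻¹ * g) := by
        calc ((h : Cfsg.Sz F 1)⁻¹ * g) * t = (h : Cfsg.Sz F 1)⁻¹ * (g * t * (g : Cfsg.Sz F 1)⁻¹) * g := by group
          _ = (h : Cfsg.Sz F 1)⁻¹ * (h * t * (h : Cfsg.Sz F 1)⁻¹) * g := by rw [h1]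
          _ = _ := by group
      have h3 : orderOf (h⁻¹ * g) ∣ 7 := by
        have := orderOf_dvd_natCard (h⁻¹ * g)
        rwa [Nat.card_zpowers, hxo] at this
      have h4 : orderOf (h⁻¹ * g) = 7 := by
        rcases (Nat.dvd_prime h7.out).1 h3 with h5 | h5
        · exact absurd (inv_mul_eq_one.1 (orderOf_eq_one_iff.1 h5)).symm hne
        · exact h5
      have h4' : orderOf ((h⁻¹ * g : zpowers x) : Cfsg.Sz F 1) = 7 := by rw [Subgroup.orderOf_coe, h4]
      have h5 := comm_seven hF (x := (h : Cfsg.Sz F 1)⁻¹ * g) (z := t) h4' h2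
      rw [hto] at h5
      norm_num at h5
    have := Fintype.ofFinite (zpowers x)
    let S : Finset (Cfsg.Sz F 1) := Finset.univ.image f
    have hS : S.card = 7 := by
      rw [Finset.card_image_of_injective _ hf, Finset.card_univ, ← Nat.card_eq_fintype_card, Nat.card_zpowers, hxo]
    have hSo : ∀ s ∈ S, orderOf s = 4 := by
      intro s hs
      obtain ⟨g, -, rfl⟩ := Finset.mem_image.1 hs
      show orderOf ((g : Cfsg.Sz F 1) * t * (g : Cfsg.Sz F 1)⁻¹) = 4
      rw [orderOf_conj, hto]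
    have ht2 : orderOf (t ^ 2) = 2 := by
      rw [orderOf_pow_of_dvd (by norm_num) (by rw [hto]; norm_num), hto]
    have hn1 : t ^ 2 ∉ S := fun h => by
      have := hSo _ h
      omega
    have hn2 : (1 : Cfsg.Sz F 1) ∉ insert (t ^ 2) S := by
      intro h
      rcases Finset.mem_insert.1 h with h | h
      · rw [← h, orderOf_one] at ht2
        omega
      · have := hSo _ h
        rw [orderOf_one] at this
        omega
    have hc : (insert (1 : Cfsg.Sz F 1) (insert (t ^ 2) S)).card = 9 := by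
      rw [Finset.card_insert_of_notMem hn2, Finset.card_insert_of_notMem hn1, hS]
    have htQ : t ∈ Q0 := by
      rw [hQ0]
      exact ⟨ht, htP⟩
    have hsub : (insert (1 : Cfsg.Sz F 1) (insert (t ^ 2) S)) ⊆ (Finset.univ.filter fun g => g ∈ Q0) := by
      intro s hs
      rw [Finset.mem_filter]
      refine ⟨Finset.mem_univ _, ?_⟩
      rcases Finset.mem_insert.1 hs with rfl | hs
      · exact one_mem _
      · rcases Finset.mem_insert.1 hs with rfl | hs
        · exact pow_mem htQ 2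
        · obtain ⟨g, -, rfl⟩ := Finset.mem_image.1 hs
          exact hZ g g.2 t htQ
    have h1 := Finset.card_le_card hsub
    rw [hc] at h1
    rwa [Nat.card_eq_fintype_card, Fintype.card_subtype]
  have h64 : Nat.card Q0 = 64 := by
    obtain ⟨i, hi, hi2⟩ := (Nat.dvd_prime_pow Nat.prime_two).1 (show Nat.card Q0 ∣ 2 ^ 6 from hQc)
    rw [hi2] at hmod h9 ⊢
    interval_cases i <;> first | rfl | (exfalso; revert h9; decide) | (exfalso; revert hmod; decide)
  have h5 : Q0 ≤ P0 := by rw [hQ0]; exact inf_le_right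
  have h6 := Subgroup.eq_of_le_of_card_ge h5 (by rw [h64]; exact hP0c.le)
  rw [← h6, hQ0]
  exact inf_le_left

theorem isCoatom_borel (P0 : Sylow 2 (Cfsg.Sz F 1)) {R : Subgroup (Cfsg.Sz F 1)}
    (hR : R ≤ normalizer ((P0 : Subgroup (Cfsg.Sz F 1)) : Set (Cfsg.Sz F 1))) {x t : Cfsg.Sz F 1} (hx : x ∈ R)
    (hxo : orderOf x = 7) (ht : t ∈ R) (hto : orderOf t = 4) : IsCoatom R := by
  have hfin : Finite (Cfsg.Sz F 1) := inferInstance
  have h1 := le_of_seven_four hF P0 hR hx hxo ht hto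
  have h2 : 64 ∣ Nat.card R := by
    have h3 := Subgroup.card_dvd_of_le h1
    have h4 : Nat.card P0 = 64 := by
      rw [(Cfsg.Agent.S0330.result le_rfl hF P0).1]
      norm_num
    rwa [h4] at h3
  have h3 : 7 ∣ Nat.card R := by rw [← hxo]; exact Subgroup.orderOf_dvd_natCard _ hx
  have h4 : 448 ∣ Nat.card R := by
    rw [show 448 = 64 * 7 by norm_num]
    exact Nat.Coprime.mul_dvd_of_dvd_of_dvd (by norm_num) h2 h3
  have h5 := Subgroup.eq_of_le_of_card_ge hR
    ((Nat.le_of_dvd (by norm_num) (card_borel hF P0)).trans (Nat.le_of_dvd Nat.card_pos h4))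
  rw [h5]
  exact (Cfsg.Agent.S2247.result le_rfl hF P0).1

theorem isCoatom_torus {U R : Subgroup (Cfsg.Sz F 1)} (hUc : IsCyclic U) {v : ℕ} (hv : v = 13 ∨ v = 5)
    (hU : Nat.card U = v) (hR : R ≤ normalizer (U : Set (Cfsg.Sz F 1))) (h4 : 4 ∣ Nat.card R) (h5 : v ∣ Nat.card R) :
    IsCoatom R := by
  have hfin : Finite (Cfsg.Sz F 1) := inferInstance
  have hvp : v.Prime := by rcases hv with rfl | rfl <;> norm_num
  have hv2 : v ≠ 2 := by omega
  have h6 : 4 * v ∣ Nat.card R := by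
    refine Nat.Coprime.mul_dvd_of_dvd_of_dvd ?_ h4 h5
    rcases hv with rfl | rfl <;> norm_num
  have hN : ∀ V : Subgroup (Cfsg.Sz F 1), IsCyclic V → Nat.card V = v →
      Nat.card (normalizer (V : Set (Cfsg.Sz F 1))) = 4 * v := fun V hVc hV =>
    card_normalizer_torus le_rfl hF V hVc (by rcases hv with rfl | rfl <;> norm_num) hV
  have hRt : R ≠ ⊤ := by
    rintro rfl
    have h7 := Subgroup.card_le_of_le hR
    rw [hN U hUc hU, Subgroup.card_top, card_sz8 hF] at h7
    omega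
  rcases eq_top_or_exists_le_coatom R with h1 | ⟨M, hM, h1⟩
  · exact absurd h1 hRt
  have hvM : v ∣ Nat.card M := h5.trans (Subgroup.card_dvd_of_le h1)
  have h7 : Nat.card M ≤ 4 * v := by
    rcases Cfsg.Agent.S2251.result le_rfl hF M hM.1 with ⟨P0, hP0⟩ | ⟨V, hVc, hVk, hV⟩ | ⟨K, _, _, k, hk1, hkm, -⟩
    · have h8 := borel_prime le_rfl hF P0 hP0 hvp hv2 hvM
      rcases hv with rfl | rfl <;> norm_num at h8
    · have h8 := torus_prime le_rfl hF V hVc hVk hV hvp hv2 hvM
      have h9 : Nat.card V = v := by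
        simp only [Set.mem_insert_iff, Set.mem_singleton_iff] at hVk
        rcases hVk with hVk | hVk | hVk <;> rw [hVk] at h8 ⊢ <;> rcases hv with rfl | rfl <;> first | rfl | norm_num at h8
      rw [← hN V hVc h9]
      exact Subgroup.card_le_of_le hV
    · omega
  have h8 := Subgroup.eq_of_le_of_card_ge h1 (h7.trans (Nat.le_of_dvd Nat.card_pos h6))
  rwa [h8]

theorem rowS_sz8 : RowS (Cfsg.Sz F 1) := by
  have hfin : Finite (Cfsg.Sz F 1) := inferInstance
  have hcard := card_sz8 hF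
  have h5 := Fact.mk (show Nat.Prime 5 by norm_num)
  have h7 := Fact.mk (show Nat.Prime 7 by norm_num)
  have h13 := Fact.mk (show Nat.Prime 13 by norm_num)
  have d5 : 5 ∣ Nat.card (Cfsg.Sz F 1) := by rw [hcard]; norm_num
  have d7 : 7 ∣ Nat.card (Cfsg.Sz F 1) := by rw [hcard]; norm_num
  have d13 : 13 ∣ Nat.card (Cfsg.Sz F 1) := by rw [hcard]; norm_num
  obtain ⟨x5, hx5⟩ := exists_prime_orderOf_dvd_card' 5 d5
  obtain ⟨x7, hx7⟩ := exists_prime_orderOf_dvd_card' 7 d7
  obtain ⟨x13, hx13⟩ := exists_prime_orderOf_dvd_card' 13 d13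
  obtain ⟨t, ht⟩ := exists_four hF
  refine ⟨fun M hM => two_sz_aux le_rfl hF M hM.1, fun R hR hRc => ?_⟩
  have hno : ∀ {p : ℕ}, ¬ p ∣ Nat.card R → ∀ y ∈ R, orderOf y ≠ p := by
    rintro p hp y hy rfl
    exact hp (Subgroup.orderOf_dvd_natCard _ hy)
  have d4 : ∀ y ∈ R, orderOf y = 4 → 4 ∣ Nat.card R := fun y hy h => by
    have h1 := Subgroup.orderOf_dvd_natCard _ hy
    rwa [h] at h1
  have three : ¬ 5 ∣ Nat.card R → ¬ 7 ∣ Nat.card R → ¬ 13 ∣ Nat.card R → Three (Cfsg.Sz F 1) R := fun h1 h2 h3 =>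
    Three.of_three_primes h5.out h7.out h13.out (by norm_num) (by norm_num) (by norm_num) d5 d7 d13 h1 h2 h3
  rcases Cfsg.Agent.S2251.result le_rfl hF R hR with ⟨P0, hP0⟩ | ⟨U, hUc, hUk, hU⟩ | ⟨K, _, _, k, hk1, hkm, -⟩
  · have n5 : ¬ 5 ∣ Nat.card R := fun h => by
      have := borel_prime le_rfl hF P0 hP0 h5.out (by norm_num) h
      norm_num at this
    have n13 : ¬ 13 ∣ Nat.card R := fun h => by
      have := borel_prime le_rfl hF P0 hP0 h13.out (by norm_num) h
      norm_num at this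
    by_cases hd : 7 ∣ Nat.card R
    · by_cases h4 : ∀ y ∈ R, orderOf y ≠ 4
      · exact Three.of_orders (a := 5) (b := 13) (c := 4) (by norm_num) (by norm_num) (by norm_num) hx5 hx13 ht
          (hno n5) (hno n13) h4
      · exfalso
        push Not at h4
        obtain ⟨y, hy, hy4⟩ := h4
        obtain ⟨x, hx⟩ := exists_prime_orderOf_dvd_card' (G := R) 7 hd
        exact hRc (isCoatom_borel hF P0 hP0 x.2 (by rw [Subgroup.orderOf_coe, hx]) hy hy4)
    · exact three n5 hd n13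
  · have key : ∀ p : ℕ, p.Prime → p ≠ 2 → p ∣ Nat.card R → p ∣ Nat.card U := fun p hp hp2 h =>
      torus_prime le_rfl hF U hUc hUk hU hp hp2 h
    simp only [Set.mem_insert_iff, Set.mem_singleton_iff] at hUk
    rcases hUk with hUk | hUk | hUk
    · have hUk' : Nat.card U = 7 := by rw [hUk]; norm_num
      rw [hUk'] at key
      have n5 : ¬ 5 ∣ Nat.card R := fun h => by
        have := key 5 h5.out (by norm_num) h
        norm_num at this
      have n13 : ¬ 13 ∣ Nat.card R := fun h => by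
        have := key 13 h13.out (by norm_num) h
        norm_num at this
      by_cases hd : 7 ∣ Nat.card R
      · refine Three.of_orders (a := 5) (b := 13) (c := 4) (by norm_num) (by norm_num) (by norm_num) hx5 hx13 ht
          (hno n5) (hno n13) fun y hy hy4 => ?_
        have h1 : 4 ∣ Nat.card R := d4 y hy hy4
        have h2 : 4 * 7 ∣ Nat.card R := Nat.Coprime.mul_dvd_of_dvd_of_dvd (by norm_num) h1 hd
        have h3 := Nat.le_of_dvd Nat.card_pos h2
        have h4 := (Subgroup.card_le_of_le hU).trans (card_normalizer_seven hF hUk')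
        omega
      · exact three n5 hd n13
    · have hUk' : Nat.card U = 13 := by rw [hUk]; norm_num
      rw [hUk'] at key
      have n5 : ¬ 5 ∣ Nat.card R := fun h => by
        have := key 5 h5.out (by norm_num) h
        norm_num at this
      have n7 : ¬ 7 ∣ Nat.card R := fun h => by
        have := key 7 h7.out (by norm_num) h
        norm_num at this
      by_cases hd : 13 ∣ Nat.card R
      · refine Three.of_orders (a := 5) (b := 7) (c := 4) (by norm_num) (by norm_num) (by norm_num) hx5 hx7 ht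
          (hno n5) (hno n7) fun y hy hy4 => ?_
        exact hRc (isCoatom_torus hF hUc (Or.inl rfl) hUk' hU (d4 y hy hy4) hd)
      · exact three n5 n7 hd
    · have hUk' : Nat.card U = 5 := by rw [hUk]; norm_num
      rw [hUk'] at key
      have n13 : ¬ 13 ∣ Nat.card R := fun h => by
        have := key 13 h13.out (by norm_num) h
        norm_num at this
      have n7 : ¬ 7 ∣ Nat.card R := fun h => by
        have := key 7 h7.out (by norm_num) h
        norm_num at this
      by_cases hd : 5 ∣ Nat.card R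
      · refine Three.of_orders (a := 13) (b := 7) (c := 4) (by norm_num) (by norm_num) (by norm_num) hx13 hx7 ht
          (hno n13) (hno n7) fun y hy hy4 => ?_
        exact hRc (isCoatom_torus hF hUc (Or.inr rfl) hUk' hU (d4 y hy hy4) hd)
      · exact three hd n7 n13
  · omega

end eight

theorem rowS_sz_aux {m : ℕ} (hm : 1 ≤ m) (hF : Fintype.card F = 2 ^ (2 * m + 1)) : RowS (Cfsg.Sz F m) := by
  have hfin : Finite (Cfsg.Sz F m) := inferInstance
  rcases Nat.lt_or_ge 1 m with h2 | h1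
  · exact RowS.of_three fun M hM => three_sz h2 hF M hM.1
  · have hm1 : m = 1 := by omega
    subst hm1
    exact rowS_sz8 hF

/-- **the Suzuki groups** -/
theorem rowS_sz {T : Type*} [Group T] (h : Cfsg.Lie.IsoSuzuki T) : RowS T := by
  obtain ⟨F, iF, iF', m, hm, hF, ⟨e⟩⟩ := h
  obtain ⟨f⟩ := Cfsg.Agent.OddCyclic.ClaimC.SzIso.iso hm hF
  exact (rowS_sz_aux hm hF).congr (f.trans e.symm)

end Cfsg.Agent.H221.Der
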